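import Cfsg.Agent.Lib.CosetEnum.Stem.Sound
import Cfsg.Agent.Lib.CosetEnum.RuStemG.DefsAPart0
import Cfsg.Agent.Lib.CosetEnum.RuStemG.StepsAPart0
import Cfsg.Agent.Lib.CosetEnum.RuStemG.DefsBPart0
import Cfsg.Agent.Lib.CosetEnum.RuStemG.StepsBPart0

/-! Generated certificate. -/

set_option autoImplicit false
set_option maxRecDepth 20000

namespace Cfsg.Lib.CosetEnum.RuStemG

open Stem

theorem validA : certA.Valid where
  len := by decide +kernel
  defs := defsA_0
  steps := stepsA_0
  eqs := by decide +kernel

theorem srcA_ok : srcOK canon canonVals 0 relWordsA relValsA srcsA = true := by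
  decide +kernel

theorem validB : certB.Valid where
  len := by decide +kernel
  defs := defsB_0
  steps := stepsB_0
  eqs := by decide +kernel

theorem srcB_ok : srcOK canon canonVals 0 relWordsB relValsB srcsB = true := by
  decide +kernel

end Cfsg.Lib.CosetEnum.RuStemG
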