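import Cfsg.Agent.Lib.CosetEnum.Defs

/-! Generated table data. -/

set_option autoImplicit false
set_option maxRecDepth 20000

namespace Cfsg.Lib.CosetEnum.RuStemG

/-- Table data. -/
def tabCA_0_0 : Tab :=
  (.node 14 (.node 7 (.node 3 (.node 1 (.leaf 0x4000000000000003c) (.node 1 (.leaf 0x4000000000000003d) (.leaf 0x4000000000000003e))) (.node 2 (.node 1 (.leaf 0x4000000000000003f) (.leaf 0x40000000000000040)) (.node 1 (.leaf 0x400000000094000260000a00002700005c000160000540001400004c000120000440001000003c0000e0000340000c00002c0000a0000240000800001c000060000140000400000c0000200000400000000098000290000a0000260000940001d00000000004) (.leaf 0x400000000098000000000a80000100000400005)))) (.node 3 (.node 1 (.leaf 0x10000100000500001800007000020000090000280000b0000300000d0000380000f000040000110000480001300005000015000058000170000ac00002000004000000000a00002600009400027000098000250000000002a0000ac0000c00000400018) (.node 1 (.leaf 0x4000050000140000400000c0002c000010000050000140000d) (.leaf 0x1000018000060000b40000200001800011))) (.node 2 (.node 1 (.leaf 0x4000020000080002c00000c0000300000c0000b) (.leaf 0x10000040002f0000040002a0000ac000010000bc000070000080001a)) (.node 1 (.leaf 0x4000170000ac000300000080000400000c00002)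 (.leaf 0x100000000027000000000170000ac0000200000400007))))) (.node 7 (.node 3 (.node 1 (.leaf 0x1000004000320000c40002c0000100000500001400003) (.node 1 (.leaf 0x10000a80002b0000c0000330000140000500001800001) (.leaf 0x4000160000c8000340000180000400001c00000))) (.node 2 (.node 1 (.leaf 0x100001c000350000580003200001c00035000058000320000ac000170000c80000700000400010) (.leaf 0x10000580003200000000025000000000160000c8000020000040001b)) (.node 1 (.leaf 0x1000000000280000000000100000000006) (.leaf 0x100005800032000058000320000e00000300000400015)))) (.node 4 (.node 2 (.node 1 (.leaf 0x100001c000070000d4000390000d40000400001c00008) (.leaf 0x1000028000090000200003a00001c0001e0000740001c00006c0001a0000640001800004c00014000054000160000c80002a00005c000320000000002500009800027000094000260000a40002600009c000290000000002a0000ac00030000004000380000a80002b0000c8000160000d40002400001c00004)) (.node 1 (.leaf 0x40000c00002c0001e0000ec0000200002c0000b) (.leaf 0x10000340003c0000740000300007400000))) (.node 2 (.node 1 (.leaf 0x10000380003d0000700000300007000001) (.leaf 0x100003c0003e00006c0000300006c00000)) (.node 1 (.leaf 0x10000400003f0000680000300006800001) (.leaf 0x100009000023000088000210000800001f00005000015000058000320000000002500009800025000098000280000a40002600009400026000000000320000580003500009000023000088000210000800001f000050000150000d40000900001c0000a))))))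

/-- Table data. -/
def tabCA_0 : Tab :=
  tabCA_0_0

end Cfsg.Lib.CosetEnum.RuStemG
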