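import Cfsg.Agent.Lib.CosetEnum.Defs

/-! Generated table data. -/

set_option autoImplicit false
set_option maxRecDepth 20000

namespace Cfsg.Lib.CosetEnum.RuStemG

/-- Table data. -/
def tabFA_0_0 : Tab :=
  (.node 1 (.leaf 0x8000037f00000000007800039f0000000000700003bf0000000000f00001bf0000000000f80001610000000000400001030000000000b00002c30000000000080000230000000000b00002c50000000000400001000000000000b00000ff0000000000080000df0000000000100000bf0000000000b800003f0000000000b800007f00000000000800005f0000000000100000410000000000380000e40000000000300000c400000000001800009f0000000000c000003f0000000000c00000210000000000000000040000000000000000030000000000000000020000000000000000010000000000000000000000000001200004a00000000001180004810000000001100004640000000001080004430000000001000004210000000000a00004030000000000f00003e20000000000e80003c00000000000e00003a10000000000d80003800000000000d00003610000000000c80003420000000000980003230000000000b80003020000000000b00002e00000000000a80002c10000000000a00002a00000000000980002810000000000900002620000000000880002430000000000800002210000000000780002000000000000700001e10000000000680001c00000000000600001a10000000000580001820000000000500001650000000000480001400000000000400001210000000000380001020000000000300000e00000000000280000c10000000000200000a4000000000018000081000000000010000062000000000008000044000000000000000025) (.leaf 0x1280004a500000000008800035f))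

/-- Table data. -/
def tabFA_0 : Tab :=
  tabFA_0_0

end Cfsg.Lib.CosetEnum.RuStemG
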