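import Cfsg.Agent.Lib.CosetEnum.Defs

/-! Generated table data. -/

set_option autoImplicit false
set_option maxRecDepth 20000

namespace Cfsg.Lib.CosetEnum.RuStemG

/-- Table data. -/
def tabVA_0_0 : Tab :=
  (.node 32 (.node 16 (.node 8 (.node 4 (.node 2 (.node 1 (.leaf 0x80808080808080808080) (.leaf 0x80808080808080808080)) (.node 1 (.leaf 0x80808080808080808080) (.leaf 0x80808080808080808080))) (.node 2 (.node 1 (.leaf 0x80808080808080808080) (.leaf 0x80808080808080808080)) (.node 1 (.leaf 0x80808080808080808080) (.leaf 0x80808080808080808080)))) (.node 4 (.node 2 (.node 1 (.leaf 0x80808080808080808080) (.leaf 0x80808080808080808080)) (.node 1 (.leaf 0x80808080808080808080) (.leaf 0x80808080808080808080))) (.node 2 (.node 1 (.leaf 0x80808080808080808080) (.leaf 0x80808080808080808080)) (.node 1 (.leaf 0x80808080808080808080) (.leaf 0x80808080808080808080))))) (.node 8 (.node 4 (.node 2 (.node 1 (.leaf 0x80808080808080808080) (.leaf 0x80808080808080808080)) (.node 1 (.leaf 0x80808080808080808080) (.leaf 0x80808080808080808080))) (.node 2 (.node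 1 (.leaf 0x80808080808080808080) (.leaf 0x80808080808080808080)) (.node 1 (.leaf 0x80808080808080808080) (.leaf 0x80808080808080808080)))) (.node 4 (.node 2 (.node 1 (.leaf 0x80808080808080808080) (.leaf 0x80808080808080808080)) (.node 1 (.leaf 0x80808080808080808080) (.leaf 0x80808080808080808080))) (.node 2 (.node 1 (.leaf 0x80808080808080808080) (.leaf 0x80808080808080808080)) (.node 1 (.leaf 0x80808080808080808080) (.leaf 0x80808080808080808080)))))) (.node 16 (.node 8 (.node 4 (.node 2 (.node 1 (.leaf 0x80808080808080808080) (.leaf 0x80808080808080808080)) (.node 1 (.leaf 0x80808080808080808080) (.leaf 0x80808080808080808080))) (.node 2 (.node 1 (.leaf 0x80808080808080808080) (.leaf 0x80808080808080808080)) (.node 1 (.leaf 0x80808080808080808080) (.leaf 0x80808080808080808080)))) (.node 4 (.node 2 (.node 1 (.leaf 0x80808080808080808080) (.leaf 0x80808080808080808080)) (.node 1 (.leaf 0x80818080808080808080) (.leaf 0x80818080808080818080))) (.node 2 (.node 1 (.leaf 0x807f8081808080808080) (.leaf 0x807f8081808080808080)) (.node 1 (.leaf 0x8081807f808080808080)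 (.leaf 0x807f8081808080808080))))) (.node 8 (.node 4 (.node 2 (.node 1 (.leaf 0x8082807e808080818080) (.leaf 0x8083807e808080828080)) (.node 1 (.leaf 0x80818080808180818080) (.leaf 0x8081807f807f80818080))) (.node 2 (.node 1 (.leaf 0x8083807d807f80838080) (.leaf 0x8084807d808080848080)) (.node 1 (.leaf 0x80808080808180808080) (.leaf 0x80808080808080808081)))) (.node 4 (.node 2 (.node 1 (.leaf 0x80808080808080808180) (.leaf 0x80808080808080807f80)) (.node 1 (.leaf 0x80808080808080808180) (.leaf 0x8087807b808180888080))) (.node 2 (.node 1 (.leaf 0x8087807b808180888080) (.leaf 0x80798085807f80788080)) (.node 1 (.leaf 0x80798085807f80788080) (.leaf 0x80798085807f80788080)))))))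

/-- Table data. -/
def tabVA_0_1 : Tab :=
  (.node 1 (.leaf 0x80798085807f80788080) (.leaf 0x80808080818080808080))

/-- Table data. -/
def tabVA_0 : Tab :=
  (.node 64 tabVA_0_0 tabVA_0_1)

end Cfsg.Lib.CosetEnum.RuStemG
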