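import Cfsg.Agent.Lib.CosetEnum.Defs

/-! Generated table data. -/

set_option autoImplicit false
set_option maxRecDepth 20000

namespace Cfsg.Lib.CosetEnum.RuStemG

/-- Table data. -/
def tabVB_0_0 : Tab :=
  (.node 32 (.node 16 (.node 8 (.node 4 (.node 2 (.node 1 (.leaf 0x8888888888) (.leaf 0x8888888888)) (.node 1 (.leaf 0x8888888888) (.leaf 0x8888888888))) (.node 2 (.node 1 (.leaf 0x8888888888) (.leaf 0x8888888888)) (.node 1 (.leaf 0x8888888888) (.leaf 0x8888888888)))) (.node 4 (.node 2 (.node 1 (.leaf 0x8888888888) (.leaf 0x8888888888)) (.node 1 (.leaf 0x8888888888) (.leaf 0x8888888888))) (.node 2 (.node 1 (.leaf 0x8888888888) (.leaf 0x8888888888)) (.node 1 (.leaf 0x8888888888) (.leaf 0x8888888888))))) (.node 8 (.node 4 (.node 2 (.node 1 (.leaf 0x8888888888) (.leaf 0x8888888888)) (.node 1 (.leaf 0x8888888888) (.leaf 0x8888888888))) (.node 2 (.node 1 (.leaf 0x8888888888) (.leaf 0x8888888888)) (.node 1 (.leaf 0x8888888888) (.leaf 0x8888888888))))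 (.node 4 (.node 2 (.node 1 (.leaf 0x8888888888) (.leaf 0x8888888888)) (.node 1 (.leaf 0x8888888888) (.leaf 0x8888888888))) (.node 2 (.node 1 (.leaf 0x8888888888) (.leaf 0x8888888888)) (.node 1 (.leaf 0x8888888888) (.leaf 0x8888888888)))))) (.node 16 (.node 8 (.node 4 (.node 2 (.node 1 (.leaf 0x8888888888) (.leaf 0x8888888888)) (.node 1 (.leaf 0x8888888888) (.leaf 0x8888888888))) (.node 2 (.node 1 (.leaf 0x8888888888) (.leaf 0x8888888888)) (.node 1 (.leaf 0x8888888888) (.leaf 0x8888888888)))) (.node 4 (.node 2 (.node 1 (.leaf 0x8888888888) (.leaf 0x8888888888)) (.node 1 (.leaf 0x8888888888) (.leaf 0x8888888888))) (.node 2 (.node 1 (.leaf 0x8888888888) (.leaf 0x8888888888)) (.node 1 (.leaf 0x8888888888) (.leaf 0x8888888888))))) (.node 8 (.node 4 (.node 2 (.node 1 (.leaf 0x8888888888) (.leaf 0x8888888888)) (.node 1 (.leaf 0x8888888888) (.leaf 0x8888888888))) (.node 2 (.node 1 (.leaf 0x8888888888) (.leaf 0x8888888888)) (.node 1 (.leaf 0x8888888888)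 (.leaf 0x8888888888)))) (.node 4 (.node 2 (.node 1 (.leaf 0x8888888888) (.leaf 0x8888888888)) (.node 1 (.leaf 0x8888888888) (.leaf 0x8888888888))) (.node 2 (.node 1 (.leaf 0x8888888888) (.leaf 0x8888888888)) (.node 1 (.leaf 0x8888888888) (.leaf 0x8888888888)))))))

/-- Table data. -/
def tabVB_0_1 : Tab :=
  (.node 32 (.node 16 (.node 8 (.node 4 (.node 2 (.node 1 (.leaf 0x8888888888) (.leaf 0x8888888888)) (.node 1 (.leaf 0x8888888888) (.leaf 0x8888888888))) (.node 2 (.node 1 (.leaf 0x8888888888) (.leaf 0x8888888888)) (.node 1 (.leaf 0x8888888888) (.leaf 0x8888888888)))) (.node 4 (.node 2 (.node 1 (.leaf 0x8888888888) (.leaf 0x8888888888)) (.node 1 (.leaf 0x8888888888) (.leaf 0x8888888888))) (.node 2 (.node 1 (.leaf 0x8888888888) (.leaf 0x8888888888)) (.node 1 (.leaf 0x8888888888) (.leaf 0x8888888888))))) (.node 8 (.node 4 (.node 2 (.node 1 (.leaf 0x8888888888) (.leaf 0x8888888888)) (.node 1 (.leaf 0x8888888888) (.leaf 0x8888888888)))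 (.node 2 (.node 1 (.leaf 0x8888888888) (.leaf 0x8888888888)) (.node 1 (.leaf 0x8888888888) (.leaf 0x8888888888)))) (.node 4 (.node 2 (.node 1 (.leaf 0x8888888888) (.leaf 0x8888888888)) (.node 1 (.leaf 0x8888888888) (.leaf 0x8888888888))) (.node 2 (.node 1 (.leaf 0x8888888888) (.leaf 0x8888888888)) (.node 1 (.leaf 0x8888888888) (.leaf 0x8888888888)))))) (.node 16 (.node 8 (.node 4 (.node 2 (.node 1 (.leaf 0x8888888888) (.leaf 0x8888888888)) (.node 1 (.leaf 0x8888888888) (.leaf 0x8888888888))) (.node 2 (.node 1 (.leaf 0x8888888888) (.leaf 0x8888888888)) (.node 1 (.leaf 0x8888888888) (.leaf 0x8888888888)))) (.node 4 (.node 2 (.node 1 (.leaf 0x8888888888) (.leaf 0x8888888888)) (.node 1 (.leaf 0x8888888888) (.leaf 0x8888888888))) (.node 2 (.node 1 (.leaf 0x8888888888) (.leaf 0x8888888888)) (.node 1 (.leaf 0x8888888888) (.leaf 0x8888888888))))) (.node 8 (.node 4 (.node 2 (.node 1 (.leaf 0x8888888888) (.leaf 0x8888888888)) (.node 1 (.leaf 0x8888888888)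 (.leaf 0x8888888888))) (.node 2 (.node 1 (.leaf 0x8888888888) (.leaf 0x8888888888)) (.node 1 (.leaf 0x8888888888) (.leaf 0x8888888888)))) (.node 4 (.node 2 (.node 1 (.leaf 0x8888888888) (.leaf 0x8888888888)) (.node 1 (.leaf 0x8888888888) (.leaf 0x8888888888))) (.node 2 (.node 1 (.leaf 0x8888888888) (.leaf 0x8888888888)) (.node 1 (.leaf 0x8888888888) (.leaf 0x8888888888)))))))

/-- Table data. -/
def tabVB_0_2 : Tab :=
  (.node 32 (.node 16 (.node 8 (.node 4 (.node 2 (.node 1 (.leaf 0x8888888888) (.leaf 0x8888888888)) (.node 1 (.leaf 0x8888888888) (.leaf 0x8888888888))) (.node 2 (.node 1 (.leaf 0x8888888888) (.leaf 0x8888888888)) (.node 1 (.leaf 0x8888888888) (.leaf 0x8888888888)))) (.node 4 (.node 2 (.node 1 (.leaf 0x8888888888) (.leaf 0x8888888888)) (.node 1 (.leaf 0x8888888888) (.leaf 0x8888888888))) (.node 2 (.node 1 (.leaf 0x8888888888) (.leaf 0x8888888888)) (.node 1 (.leaf 0x8888888888) (.leaf 0x8888888888))))) (.node 8 (.node 4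 (.node 2 (.node 1 (.leaf 0x8888888888) (.leaf 0x8888888888)) (.node 1 (.leaf 0x8888888888) (.leaf 0x8888888888))) (.node 2 (.node 1 (.leaf 0x8888888888) (.leaf 0x8888888888)) (.node 1 (.leaf 0x8888888888) (.leaf 0x8888888888)))) (.node 4 (.node 2 (.node 1 (.leaf 0x8888888888) (.leaf 0x8888888888)) (.node 1 (.leaf 0x8888888888) (.leaf 0x8888888888))) (.node 2 (.node 1 (.leaf 0x8888888888) (.leaf 0x8888888888)) (.node 1 (.leaf 0x8888888888) (.leaf 0x8888888888)))))) (.node 16 (.node 8 (.node 4 (.node 2 (.node 1 (.leaf 0x8888888888) (.leaf 0x8888888888)) (.node 1 (.leaf 0x8888888888) (.leaf 0x8888888888))) (.node 2 (.node 1 (.leaf 0x8888888888) (.leaf 0x8888888888)) (.node 1 (.leaf 0x8888888888) (.leaf 0x8888888888)))) (.node 4 (.node 2 (.node 1 (.leaf 0x8888888888) (.leaf 0x8888888888)) (.node 1 (.leaf 0x8888888888) (.leaf 0x8888888888))) (.node 2 (.node 1 (.leaf 0x8888888888) (.leaf 0x8888888888)) (.node 1 (.leaf 0x8888888888) (.leaf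 0x8888888888))))) (.node 8 (.node 4 (.node 2 (.node 1 (.leaf 0x8888888888) (.leaf 0x8888888888)) (.node 1 (.leaf 0x8888888888) (.leaf 0x8888888888))) (.node 2 (.node 1 (.leaf 0x8888888888) (.leaf 0x8888888888)) (.node 1 (.leaf 0x8888888888) (.leaf 0x8888888888)))) (.node 4 (.node 2 (.node 1 (.leaf 0x8888888888) (.leaf 0x8888888888)) (.node 1 (.leaf 0x8888888888) (.leaf 0x8888888888))) (.node 2 (.node 1 (.leaf 0x8888888888) (.leaf 0x8888888888)) (.node 1 (.leaf 0x8888888888) (.leaf 0x8888888888)))))))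

/-- Table data. -/
def tabVB_0_3 : Tab :=
  (.node 32 (.node 16 (.node 8 (.node 4 (.node 2 (.node 1 (.leaf 0x8888888888) (.leaf 0x8888888888)) (.node 1 (.leaf 0x8888888888) (.leaf 0x8888888888))) (.node 2 (.node 1 (.leaf 0x8888888888) (.leaf 0x8888888888)) (.node 1 (.leaf 0x8888888888) (.leaf 0x8888888888)))) (.node 4 (.node 2 (.node 1 (.leaf 0x8888888888) (.leaf 0x8888888888)) (.node 1 (.leaf 0x8888888888) (.leaf 0x8888888888))) (.node 2 (.node 1 (.leaf 0x8888888888) (.leaf 0x8888888888)) (.node 1 (.leaf 0x8888888888) (.leaf 0x8888888888))))) (.node 8 (.node 4 (.node 2 (.node 1 (.leaf 0x8888888888) (.leaf 0x8888888888)) (.node 1 (.leaf 0x8888888888) (.leaf 0x8888888888))) (.node 2 (.node 1 (.leaf 0x8888888888) (.leaf 0x8888888888)) (.node 1 (.leaf 0x8888888888) (.leaf 0x8888888888)))) (.node 4 (.node 2 (.node 1 (.leaf 0x8888888888) (.leaf 0x8888888888)) (.node 1 (.leaf 0x8888888888) (.leaf 0x8888888888))) (.node 2 (.node 1 (.leaf 0x8888888888)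 (.leaf 0x8888888888)) (.node 1 (.leaf 0x8888888888) (.leaf 0x8888888888)))))) (.node 16 (.node 8 (.node 4 (.node 2 (.node 1 (.leaf 0x8888888888) (.leaf 0x8888888888)) (.node 1 (.leaf 0x8888888888) (.leaf 0x8888888888))) (.node 2 (.node 1 (.leaf 0x8888888888) (.leaf 0x8888888888)) (.node 1 (.leaf 0x8888888888) (.leaf 0x8888888888)))) (.node 4 (.node 2 (.node 1 (.leaf 0x8888888888) (.leaf 0x8888888888)) (.node 1 (.leaf 0x8888888888) (.leaf 0x8888888888))) (.node 2 (.node 1 (.leaf 0x8888888888) (.leaf 0x8888888888)) (.node 1 (.leaf 0x8888888888) (.leaf 0x8888888888))))) (.node 8 (.node 4 (.node 2 (.node 1 (.leaf 0x8888888888) (.leaf 0x8888888888)) (.node 1 (.leaf 0x8888888888) (.leaf 0x8888888888))) (.node 2 (.node 1 (.leaf 0x8888888888) (.leaf 0x8888888888)) (.node 1 (.leaf 0x8888888888) (.leaf 0x8888888888)))) (.node 4 (.node 2 (.node 1 (.leaf 0x8888888888) (.leaf 0x8888888888)) (.node 1 (.leaf 0x8888888888) (.leaf 0x8888888888))) (.node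 2 (.node 1 (.leaf 0x8888888888) (.leaf 0x8888888888)) (.node 1 (.leaf 0x8888888888) (.leaf 0x8888888888)))))))

/-- Table data. -/
def tabVB_0_4 : Tab :=
  (.node 32 (.node 16 (.node 8 (.node 4 (.node 2 (.node 1 (.leaf 0x8888888888) (.leaf 0x8888888888)) (.node 1 (.leaf 0x8888888888) (.leaf 0x8888888888))) (.node 2 (.node 1 (.leaf 0x8888888888) (.leaf 0x8888888888)) (.node 1 (.leaf 0x8888888888) (.leaf 0x8888888888)))) (.node 4 (.node 2 (.node 1 (.leaf 0x8888888888) (.leaf 0x8888888888)) (.node 1 (.leaf 0x8888888888) (.leaf 0x8888888888))) (.node 2 (.node 1 (.leaf 0x8888888888) (.leaf 0x8888888888)) (.node 1 (.leaf 0x8888888888) (.leaf 0x8888888888))))) (.node 8 (.node 4 (.node 2 (.node 1 (.leaf 0x8888888888) (.leaf 0x8888888888)) (.node 1 (.leaf 0x8888888888) (.leaf 0x8888888888))) (.node 2 (.node 1 (.leaf 0x8888888888) (.leaf 0x8888888888)) (.node 1 (.leaf 0x8888888888) (.leaf 0x8888888888)))) (.node 4 (.node 2 (.node 1 (.leaf 0x8888888888)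 (.leaf 0x8888888888)) (.node 1 (.leaf 0x8888888888) (.leaf 0x8888888888))) (.node 2 (.node 1 (.leaf 0x8888888888) (.leaf 0x8888888888)) (.node 1 (.leaf 0x8888888888) (.leaf 0x8888888888)))))) (.node 16 (.node 8 (.node 4 (.node 2 (.node 1 (.leaf 0x8888888888) (.leaf 0x8888888888)) (.node 1 (.leaf 0x8888888888) (.leaf 0x8888888888))) (.node 2 (.node 1 (.leaf 0x8888888888) (.leaf 0x8888888888)) (.node 1 (.leaf 0x8888888888) (.leaf 0x8888888888)))) (.node 4 (.node 2 (.node 1 (.leaf 0x8888888888) (.leaf 0x8888888888)) (.node 1 (.leaf 0x8888888888) (.leaf 0x8888888888))) (.node 2 (.node 1 (.leaf 0x8888888888) (.leaf 0x8888888888)) (.node 1 (.leaf 0x8888888888) (.leaf 0x8888888888))))) (.node 8 (.node 4 (.node 2 (.node 1 (.leaf 0x8888888888) (.leaf 0x8888888888)) (.node 1 (.leaf 0x8888888888) (.leaf 0x8888888888))) (.node 2 (.node 1 (.leaf 0x8888888888) (.leaf 0x8888888888)) (.node 1 (.leaf 0x8888888888) (.leaf 0x8888888888)))) (.node 4 (.node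 2 (.node 1 (.leaf 0x8888888888) (.leaf 0x8888888888)) (.node 1 (.leaf 0x8888888888) (.leaf 0x8888888888))) (.node 2 (.node 1 (.leaf 0x8888888888) (.leaf 0x8888888888)) (.node 1 (.leaf 0x8888888888) (.leaf 0x8888888888)))))))

/-- Table data. -/
def tabVB_0_5 : Tab :=
  (.node 32 (.node 16 (.node 8 (.node 4 (.node 2 (.node 1 (.leaf 0x8888888888) (.leaf 0x8888888888)) (.node 1 (.leaf 0x8888888888) (.leaf 0x8888888888))) (.node 2 (.node 1 (.leaf 0x8888888888) (.leaf 0x8888888888)) (.node 1 (.leaf 0x8888888888) (.leaf 0x8888888888)))) (.node 4 (.node 2 (.node 1 (.leaf 0x8888888888) (.leaf 0x8888888888)) (.node 1 (.leaf 0x8888888888) (.leaf 0x8888888888))) (.node 2 (.node 1 (.leaf 0x8888888888) (.leaf 0x8888888888)) (.node 1 (.leaf 0x8888888888) (.leaf 0x8888888888))))) (.node 8 (.node 4 (.node 2 (.node 1 (.leaf 0x8888888888) (.leaf 0x8888888888)) (.node 1 (.leaf 0x8888888888) (.leaf 0x8888888888))) (.node 2 (.node 1 (.leaf 0x8888888888)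 (.leaf 0x8888888888)) (.node 1 (.leaf 0x8888888888) (.leaf 0x8888888888)))) (.node 4 (.node 2 (.node 1 (.leaf 0x8888888888) (.leaf 0x8888888888)) (.node 1 (.leaf 0x8888888888) (.leaf 0x8888888888))) (.node 2 (.node 1 (.leaf 0x8888888888) (.leaf 0x8888888888)) (.node 1 (.leaf 0x8888888888) (.leaf 0x8888888888)))))) (.node 16 (.node 8 (.node 4 (.node 2 (.node 1 (.leaf 0x8888888888) (.leaf 0x8888888888)) (.node 1 (.leaf 0x8888888888) (.leaf 0x8888888888))) (.node 2 (.node 1 (.leaf 0x8888888888) (.leaf 0x8888888888)) (.node 1 (.leaf 0x8888888888) (.leaf 0x8888888888)))) (.node 4 (.node 2 (.node 1 (.leaf 0x8888888888) (.leaf 0x8888888888)) (.node 1 (.leaf 0x8888888888) (.leaf 0x8888888888))) (.node 2 (.node 1 (.leaf 0x8888888888) (.leaf 0x8888888888)) (.node 1 (.leaf 0x8888888888) (.leaf 0x8888888888))))) (.node 8 (.node 4 (.node 2 (.node 1 (.leaf 0x8888888888) (.leaf 0x8888888888)) (.node 1 (.leaf 0x8888888888) (.leaf 0x8888888888))) (.node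 2 (.node 1 (.leaf 0x8888888888) (.leaf 0x8888888888)) (.node 1 (.leaf 0x8888888888) (.leaf 0x8888888888)))) (.node 4 (.node 2 (.node 1 (.leaf 0x8888888888) (.leaf 0x8888888888)) (.node 1 (.leaf 0x8888888888) (.leaf 0x8888888888))) (.node 2 (.node 1 (.leaf 0x8888888888) (.leaf 0x8888888888)) (.node 1 (.leaf 0x8888888888) (.leaf 0x8888888888)))))))

/-- Table data. -/
def tabVB_0_6 : Tab :=
  (.node 32 (.node 16 (.node 8 (.node 4 (.node 2 (.node 1 (.leaf 0x8888888888) (.leaf 0x8888888888)) (.node 1 (.leaf 0x8888888888) (.leaf 0x8888888888))) (.node 2 (.node 1 (.leaf 0x8888888888) (.leaf 0x8888888888)) (.node 1 (.leaf 0x8888888888) (.leaf 0x8888888888)))) (.node 4 (.node 2 (.node 1 (.leaf 0x8888888888) (.leaf 0x8888888888)) (.node 1 (.leaf 0x8888888888) (.leaf 0x8888888888))) (.node 2 (.node 1 (.leaf 0x8888888888) (.leaf 0x8888888888)) (.node 1 (.leaf 0x8888888888) (.leaf 0x8888888888))))) (.node 8 (.node 4 (.node 2 (.node 1 (.leaf 0x8888888888)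 (.leaf 0x8888888888)) (.node 1 (.leaf 0x8888888888) (.leaf 0x8888888888))) (.node 2 (.node 1 (.leaf 0x8888888888) (.leaf 0x8888888888)) (.node 1 (.leaf 0x8888888888) (.leaf 0x8888888888)))) (.node 4 (.node 2 (.node 1 (.leaf 0x8888888888) (.leaf 0x8888888888)) (.node 1 (.leaf 0x8888888888) (.leaf 0x8888888888))) (.node 2 (.node 1 (.leaf 0x8888888888) (.leaf 0x8888888888)) (.node 1 (.leaf 0x8888888888) (.leaf 0x8888888888)))))) (.node 16 (.node 8 (.node 4 (.node 2 (.node 1 (.leaf 0x8888888888) (.leaf 0x8888888888)) (.node 1 (.leaf 0x8888888888) (.leaf 0x8888888888))) (.node 2 (.node 1 (.leaf 0x8888888888) (.leaf 0x8888888888)) (.node 1 (.leaf 0x8888888888) (.leaf 0x8888888888)))) (.node 4 (.node 2 (.node 1 (.leaf 0x8888888888) (.leaf 0x8888888888)) (.node 1 (.leaf 0x8888888888) (.leaf 0x8888888888))) (.node 2 (.node 1 (.leaf 0x8888888888) (.leaf 0x8888888888)) (.node 1 (.leaf 0x8888888888) (.leaf 0x8888888888))))) (.node 8 (.node 4 (.node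 2 (.node 1 (.leaf 0x8888888888) (.leaf 0x8888888888)) (.node 1 (.leaf 0x8888888888) (.leaf 0x8888888888))) (.node 2 (.node 1 (.leaf 0x8888888888) (.leaf 0x8888888888)) (.node 1 (.leaf 0x8888888888) (.leaf 0x8888888888)))) (.node 4 (.node 2 (.node 1 (.leaf 0x8888888888) (.leaf 0x8888888888)) (.node 1 (.leaf 0x8888888888) (.leaf 0x8888888888))) (.node 2 (.node 1 (.leaf 0x8888888888) (.leaf 0x8888888888)) (.node 1 (.leaf 0x8888888888) (.leaf 0x8888888888)))))))

/-- Table data. -/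
def tabVB_0_7 : Tab :=
  (.node 32 (.node 16 (.node 8 (.node 4 (.node 2 (.node 1 (.leaf 0x8888888888) (.leaf 0x8888888888)) (.node 1 (.leaf 0x8888888888) (.leaf 0x8888888888))) (.node 2 (.node 1 (.leaf 0x8888888888) (.leaf 0x8888888888)) (.node 1 (.leaf 0x8888888888) (.leaf 0x8888888888)))) (.node 4 (.node 2 (.node 1 (.leaf 0x8888888888) (.leaf 0x8888888888)) (.node 1 (.leaf 0x8888888888) (.leaf 0x8888888888))) (.node 2 (.node 1 (.leaf 0x8888888888) (.leaf 0x8888888888)) (.node 1 (.leaf 0x8888888888) (.leaf 0x8888888888))))) (.node 8 (.node 4 (.node 2 (.node 1 (.leaf 0x8888888888) (.leaf 0x8888888888)) (.node 1 (.leaf 0x8888888888) (.leaf 0x8888888888))) (.node 2 (.node 1 (.leaf 0x8888888888) (.leaf 0x8888888888)) (.node 1 (.leaf 0x8888888888) (.leaf 0x8888888888)))) (.node 4 (.node 2 (.node 1 (.leaf 0x8888888888) (.leaf 0x8888888888)) (.node 1 (.leaf 0x8888888888) (.leaf 0x8888888888))) (.node 2 (.node 1 (.leaf 0x8888888888) (.leaf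 0x8888888888)) (.node 1 (.leaf 0x8888888888) (.leaf 0x8888888888)))))) (.node 16 (.node 8 (.node 4 (.node 2 (.node 1 (.leaf 0x8888888888) (.leaf 0x8888888888)) (.node 1 (.leaf 0x8888888888) (.leaf 0x8888888888))) (.node 2 (.node 1 (.leaf 0x8888888888) (.leaf 0x8888888888)) (.node 1 (.leaf 0x8888888888) (.leaf 0x8888888888)))) (.node 4 (.node 2 (.node 1 (.leaf 0x8888888888) (.leaf 0x8888888888)) (.node 1 (.leaf 0x8888888888) (.leaf 0x8888888888))) (.node 2 (.node 1 (.leaf 0x8888888888) (.leaf 0x8888888888)) (.node 1 (.leaf 0x8888888888) (.leaf 0x8888888888))))) (.node 8 (.node 4 (.node 2 (.node 1 (.leaf 0x8888888888) (.leaf 0x8888888888)) (.node 1 (.leaf 0x8888888888) (.leaf 0x8888888888))) (.node 2 (.node 1 (.leaf 0x8888888888) (.leaf 0x8888888888)) (.node 1 (.leaf 0x8888888888) (.leaf 0x8888888888)))) (.node 4 (.node 2 (.node 1 (.leaf 0x8888888888) (.leaf 0x8888888888)) (.node 1 (.leaf 0x8888888888) (.leaf 0x8888888888))) (.node 2 (.node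 1 (.leaf 0x8888888888) (.leaf 0x8888888888)) (.node 1 (.leaf 0x8888888888) (.leaf 0x8888888888)))))))

/-- Table data. -/
def tabVB_0_8 : Tab :=
  (.node 32 (.node 16 (.node 8 (.node 4 (.node 2 (.node 1 (.leaf 0x8888888888) (.leaf 0x8888888888)) (.node 1 (.leaf 0x8888888888) (.leaf 0x8888888888))) (.node 2 (.node 1 (.leaf 0x8888888888) (.leaf 0x8888888888)) (.node 1 (.leaf 0x8888888888) (.leaf 0x8888888888)))) (.node 4 (.node 2 (.node 1 (.leaf 0x8888888888) (.leaf 0x8888888888)) (.node 1 (.leaf 0x8888888888) (.leaf 0x8888888888))) (.node 2 (.node 1 (.leaf 0x8888888888) (.leaf 0x8888888888)) (.node 1 (.leaf 0x8888888888) (.leaf 0x8888888888))))) (.node 8 (.node 4 (.node 2 (.node 1 (.leaf 0x8888888888) (.leaf 0x8888888888)) (.node 1 (.leaf 0x8888888888) (.leaf 0x8888888888))) (.node 2 (.node 1 (.leaf 0x8888888888) (.leaf 0x8888888888)) (.node 1 (.leaf 0x8888888888) (.leaf 0x8888888888)))) (.node 4 (.node 2 (.node 1 (.leaf 0x8888888888)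 (.leaf 0x8888888888)) (.node 1 (.leaf 0x8888888888) (.leaf 0x8888888888))) (.node 2 (.node 1 (.leaf 0x8888888888) (.leaf 0x8888888888)) (.node 1 (.leaf 0x8888888888) (.leaf 0x8888888888)))))) (.node 16 (.node 8 (.node 4 (.node 2 (.node 1 (.leaf 0x8888888888) (.leaf 0x8888888888)) (.node 1 (.leaf 0x8888888888) (.leaf 0x8888888888))) (.node 2 (.node 1 (.leaf 0x8888888888) (.leaf 0x8888888888)) (.node 1 (.leaf 0x8888888888) (.leaf 0x8888888888)))) (.node 4 (.node 2 (.node 1 (.leaf 0x8888888888) (.leaf 0x8888888888)) (.node 1 (.leaf 0x8888888888) (.leaf 0x8888888888))) (.node 2 (.node 1 (.leaf 0x8888888888) (.leaf 0x8888888888)) (.node 1 (.leaf 0x8888888888) (.leaf 0x8888888888))))) (.node 8 (.node 4 (.node 2 (.node 1 (.leaf 0x8888888888) (.leaf 0x8888888888)) (.node 1 (.leaf 0x8888888888) (.leaf 0x8888888888))) (.node 2 (.node 1 (.leaf 0x8888888888) (.leaf 0x8888888888)) (.node 1 (.leaf 0x8888888888) (.leaf 0x8888888888)))) (.node 4 (.node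 2 (.node 1 (.leaf 0x8888888888) (.leaf 0x8888888888)) (.node 1 (.leaf 0x8888888888) (.leaf 0x8888888888))) (.node 2 (.node 1 (.leaf 0x8888888888) (.leaf 0x8888888888)) (.node 1 (.leaf 0x8888888888) (.leaf 0x8888888888)))))))

/-- Table data. -/
def tabVB_0_9 : Tab :=
  (.node 32 (.node 16 (.node 8 (.node 4 (.node 2 (.node 1 (.leaf 0x8888888888) (.leaf 0x8888888888)) (.node 1 (.leaf 0x8888888888) (.leaf 0x8888888888))) (.node 2 (.node 1 (.leaf 0x8888888888) (.leaf 0x8888888888)) (.node 1 (.leaf 0x8888888888) (.leaf 0x8888888888)))) (.node 4 (.node 2 (.node 1 (.leaf 0x8888888888) (.leaf 0x8888888888)) (.node 1 (.leaf 0x8888888888) (.leaf 0x8888888888))) (.node 2 (.node 1 (.leaf 0x8888888888) (.leaf 0x8888888888)) (.node 1 (.leaf 0x8888888888) (.leaf 0x8888888888))))) (.node 8 (.node 4 (.node 2 (.node 1 (.leaf 0x8888888888) (.leaf 0x8888888888)) (.node 1 (.leaf 0x8888888888) (.leaf 0x8888888888))) (.node 2 (.node 1 (.leaf 0x8888888888)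 (.leaf 0x8888888888)) (.node 1 (.leaf 0x8888888888) (.leaf 0x8888888888)))) (.node 4 (.node 2 (.node 1 (.leaf 0x8888888888) (.leaf 0x8888888888)) (.node 1 (.leaf 0x8888888888) (.leaf 0x8888888888))) (.node 2 (.node 1 (.leaf 0x8888888888) (.leaf 0x8888888888)) (.node 1 (.leaf 0x8888888888) (.leaf 0x8888888888)))))) (.node 16 (.node 8 (.node 4 (.node 2 (.node 1 (.leaf 0x8888888888) (.leaf 0x8888888888)) (.node 1 (.leaf 0x8888888888) (.leaf 0x8888888888))) (.node 2 (.node 1 (.leaf 0x8888888888) (.leaf 0x8888888888)) (.node 1 (.leaf 0x8888888888) (.leaf 0x8888888888)))) (.node 4 (.node 2 (.node 1 (.leaf 0x8888888888) (.leaf 0x8888888888)) (.node 1 (.leaf 0x8888888888) (.leaf 0x8888888888))) (.node 2 (.node 1 (.leaf 0x8888888888) (.leaf 0x8888888888)) (.node 1 (.leaf 0x8888888888) (.leaf 0x8888888888))))) (.node 8 (.node 4 (.node 2 (.node 1 (.leaf 0x8888888888) (.leaf 0x8888888888)) (.node 1 (.leaf 0x8888888888) (.leaf 0x8888888888))) (.node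 2 (.node 1 (.leaf 0x8888888888) (.leaf 0x8888888888)) (.node 1 (.leaf 0x8888888888) (.leaf 0x8888888888)))) (.node 4 (.node 2 (.node 1 (.leaf 0x8888888888) (.leaf 0x8888888888)) (.node 1 (.leaf 0x8888888888) (.leaf 0x8888888888))) (.node 2 (.node 1 (.leaf 0x8888888888) (.leaf 0x8888888888)) (.node 1 (.leaf 0x8888888888) (.leaf 0x8888888888)))))))

/-- Table data. -/
def tabVB_0_10 : Tab :=
  (.node 32 (.node 16 (.node 8 (.node 4 (.node 2 (.node 1 (.leaf 0x8888888888) (.leaf 0x8888888888)) (.node 1 (.leaf 0x8888888888) (.leaf 0x8888888888))) (.node 2 (.node 1 (.leaf 0x8888888888) (.leaf 0x8888888888)) (.node 1 (.leaf 0x8888888888) (.leaf 0x8888888888)))) (.node 4 (.node 2 (.node 1 (.leaf 0x8888888888) (.leaf 0x8888888888)) (.node 1 (.leaf 0x8888888888) (.leaf 0x8888888888))) (.node 2 (.node 1 (.leaf 0x8888888888) (.leaf 0x8888888888)) (.node 1 (.leaf 0x8888888888) (.leaf 0x8888888888))))) (.node 8 (.node 4 (.node 2 (.node 1 (.leaf 0x8888888888)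 (.leaf 0x8888888888)) (.node 1 (.leaf 0x8888888888) (.leaf 0x8888888888))) (.node 2 (.node 1 (.leaf 0x8888888888) (.leaf 0x8888888888)) (.node 1 (.leaf 0x8888888888) (.leaf 0x8888888888)))) (.node 4 (.node 2 (.node 1 (.leaf 0x8888888888) (.leaf 0x8888888888)) (.node 1 (.leaf 0x8888888888) (.leaf 0x8888888888))) (.node 2 (.node 1 (.leaf 0x8888888888) (.leaf 0x8888888888)) (.node 1 (.leaf 0x8888888888) (.leaf 0x8888888888)))))) (.node 16 (.node 8 (.node 4 (.node 2 (.node 1 (.leaf 0x8888888888) (.leaf 0x8888888888)) (.node 1 (.leaf 0x8888888888) (.leaf 0x8888888888))) (.node 2 (.node 1 (.leaf 0x8888888888) (.leaf 0x8888888888)) (.node 1 (.leaf 0x8888888888) (.leaf 0x8888888888)))) (.node 4 (.node 2 (.node 1 (.leaf 0x8888888888) (.leaf 0x8888888888)) (.node 1 (.leaf 0x8888888888) (.leaf 0x8888888888))) (.node 2 (.node 1 (.leaf 0x8888888888) (.leaf 0x8888888888)) (.node 1 (.leaf 0x8888888888) (.leaf 0x8888888888))))) (.node 8 (.node 4 (.node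 2 (.node 1 (.leaf 0x8888888888) (.leaf 0x8888888888)) (.node 1 (.leaf 0x8888888888) (.leaf 0x8888888888))) (.node 2 (.node 1 (.leaf 0x8888888888) (.leaf 0x8888888888)) (.node 1 (.leaf 0x8888888888) (.leaf 0x8888888888)))) (.node 4 (.node 2 (.node 1 (.leaf 0x8888888888) (.leaf 0x8888888888)) (.node 1 (.leaf 0x8888888888) (.leaf 0x8888888888))) (.node 2 (.node 1 (.leaf 0x8888888888) (.leaf 0x8888888888)) (.node 1 (.leaf 0x8888888888) (.leaf 0x8888888888)))))))

/-- Table data. -/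
def tabVB_0_11 : Tab :=
  (.node 32 (.node 16 (.node 8 (.node 4 (.node 2 (.node 1 (.leaf 0x8888888888) (.leaf 0x8888888888)) (.node 1 (.leaf 0x8888888888) (.leaf 0x8888888888))) (.node 2 (.node 1 (.leaf 0x8888888888) (.leaf 0x8888888888)) (.node 1 (.leaf 0x8888888888) (.leaf 0x8888888888)))) (.node 4 (.node 2 (.node 1 (.leaf 0x8888888888) (.leaf 0x8888888888)) (.node 1 (.leaf 0x8888888888) (.leaf 0x8888888888))) (.node 2 (.node 1 (.leaf 0x8888888888) (.leaf 0x8888888888)) (.node 1 (.leaf 0x8888888888) (.leaf 0x8888888888))))) (.node 8 (.node 4 (.node 2 (.node 1 (.leaf 0x8888888888) (.leaf 0x8888888888)) (.node 1 (.leaf 0x8888888888) (.leaf 0x8888888888))) (.node 2 (.node 1 (.leaf 0x8888888888) (.leaf 0x8888888888)) (.node 1 (.leaf 0x8888888888) (.leaf 0x8888888888)))) (.node 4 (.node 2 (.node 1 (.leaf 0x8888888888) (.leaf 0x8888888888)) (.node 1 (.leaf 0x8888888888) (.leaf 0x8888888888))) (.node 2 (.node 1 (.leaf 0x8888888888) (.leaf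 0x8888888888)) (.node 1 (.leaf 0x8888888888) (.leaf 0x8888888888)))))) (.node 16 (.node 8 (.node 4 (.node 2 (.node 1 (.leaf 0x8888888888) (.leaf 0x8888888888)) (.node 1 (.leaf 0x8888888888) (.leaf 0x8888888888))) (.node 2 (.node 1 (.leaf 0x8888888888) (.leaf 0x8888888888)) (.node 1 (.leaf 0x8888888888) (.leaf 0x8888888888)))) (.node 4 (.node 2 (.node 1 (.leaf 0x8888888888) (.leaf 0x8888888888)) (.node 1 (.leaf 0x8888888888) (.leaf 0x8888888888))) (.node 2 (.node 1 (.leaf 0x8888888888) (.leaf 0x8888888888)) (.node 1 (.leaf 0x8888888888) (.leaf 0x8888888888))))) (.node 8 (.node 4 (.node 2 (.node 1 (.leaf 0x8888888888) (.leaf 0x8888888888)) (.node 1 (.leaf 0x8888888888) (.leaf 0x8888888888))) (.node 2 (.node 1 (.leaf 0x8888888888) (.leaf 0x8888888888)) (.node 1 (.leaf 0x8888888888) (.leaf 0x8888888888)))) (.node 4 (.node 2 (.node 1 (.leaf 0x8888888888) (.leaf 0x8888888888)) (.node 1 (.leaf 0x8888888888) (.leaf 0x8888888888))) (.node 2 (.node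 1 (.leaf 0x8888888888) (.leaf 0x8888888888)) (.node 1 (.leaf 0x8888888888) (.leaf 0x8888888888)))))))

/-- Table data. -/
def tabVB_0_12 : Tab :=
  (.node 32 (.node 16 (.node 8 (.node 4 (.node 2 (.node 1 (.leaf 0x8888888888) (.leaf 0x8888888888)) (.node 1 (.leaf 0x8888888888) (.leaf 0x8888888888))) (.node 2 (.node 1 (.leaf 0x8888888888) (.leaf 0x8888888888)) (.node 1 (.leaf 0x8888888888) (.leaf 0x8888888888)))) (.node 4 (.node 2 (.node 1 (.leaf 0x8888888888) (.leaf 0x8888888888)) (.node 1 (.leaf 0x8888888888) (.leaf 0x8888888888))) (.node 2 (.node 1 (.leaf 0x8888888888) (.leaf 0x8888888888)) (.node 1 (.leaf 0x8888888888) (.leaf 0x8888888888))))) (.node 8 (.node 4 (.node 2 (.node 1 (.leaf 0x8888888888) (.leaf 0x8888888888)) (.node 1 (.leaf 0x8888888888) (.leaf 0x8888888888))) (.node 2 (.node 1 (.leaf 0x8888888888) (.leaf 0x8888888888)) (.node 1 (.leaf 0x8888888888) (.leaf 0x8888888888)))) (.node 4 (.node 2 (.node 1 (.leaf 0x8888888888)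 (.leaf 0x8888888888)) (.node 1 (.leaf 0x8888888888) (.leaf 0x8888888888))) (.node 2 (.node 1 (.leaf 0x8888888888) (.leaf 0x8888888888)) (.node 1 (.leaf 0x8888888888) (.leaf 0x8888888888)))))) (.node 16 (.node 8 (.node 4 (.node 2 (.node 1 (.leaf 0x8888888888) (.leaf 0x8888888888)) (.node 1 (.leaf 0x8888888888) (.leaf 0x8888888888))) (.node 2 (.node 1 (.leaf 0x8888888888) (.leaf 0x8888888888)) (.node 1 (.leaf 0x8888888888) (.leaf 0x8888888888)))) (.node 4 (.node 2 (.node 1 (.leaf 0x8888888888) (.leaf 0x8888888888)) (.node 1 (.leaf 0x8888888888) (.leaf 0x8888888888))) (.node 2 (.node 1 (.leaf 0x8888888888) (.leaf 0x8888888888)) (.node 1 (.leaf 0x8888888888) (.leaf 0x8888888888))))) (.node 8 (.node 4 (.node 2 (.node 1 (.leaf 0x8888888888) (.leaf 0x8888888888)) (.node 1 (.leaf 0x8888888888) (.leaf 0x8888888888))) (.node 2 (.node 1 (.leaf 0x8888888888) (.leaf 0x8888888888)) (.node 1 (.leaf 0x8888888888) (.leaf 0x8888888888)))) (.node 4 (.node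 2 (.node 1 (.leaf 0x8888888888) (.leaf 0x8888888888)) (.node 1 (.leaf 0x8888888888) (.leaf 0x8888888888))) (.node 2 (.node 1 (.leaf 0x8888888888) (.leaf 0x8888888888)) (.node 1 (.leaf 0x8888888888) (.leaf 0x8888888888)))))))

/-- Table data. -/
def tabVB_0_13 : Tab :=
  (.node 32 (.node 16 (.node 8 (.node 4 (.node 2 (.node 1 (.leaf 0x8888888888) (.leaf 0x8888888888)) (.node 1 (.leaf 0x8888888888) (.leaf 0x8888888888))) (.node 2 (.node 1 (.leaf 0x8888888888) (.leaf 0x8888888888)) (.node 1 (.leaf 0x8888888888) (.leaf 0x8888888888)))) (.node 4 (.node 2 (.node 1 (.leaf 0x8888888888) (.leaf 0x8888888888)) (.node 1 (.leaf 0x8888888888) (.leaf 0x8888888888))) (.node 2 (.node 1 (.leaf 0x8888888888) (.leaf 0x8888888888)) (.node 1 (.leaf 0x8888888888) (.leaf 0x8888888888))))) (.node 8 (.node 4 (.node 2 (.node 1 (.leaf 0x8888888888) (.leaf 0x8888888888)) (.node 1 (.leaf 0x8888888888) (.leaf 0x8888888888))) (.node 2 (.node 1 (.leaf 0x8888888888)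 (.leaf 0x8888888888)) (.node 1 (.leaf 0x8888888888) (.leaf 0x8888888888)))) (.node 4 (.node 2 (.node 1 (.leaf 0x8888888888) (.leaf 0x8888888888)) (.node 1 (.leaf 0x8888888888) (.leaf 0x8888888888))) (.node 2 (.node 1 (.leaf 0x8888888888) (.leaf 0x8888888888)) (.node 1 (.leaf 0x8888888888) (.leaf 0x8888888888)))))) (.node 16 (.node 8 (.node 4 (.node 2 (.node 1 (.leaf 0x8888888888) (.leaf 0x8888888888)) (.node 1 (.leaf 0x8888888888) (.leaf 0x8888888888))) (.node 2 (.node 1 (.leaf 0x8888888888) (.leaf 0x8888888888)) (.node 1 (.leaf 0x8888888888) (.leaf 0x8888888888)))) (.node 4 (.node 2 (.node 1 (.leaf 0x8888888888) (.leaf 0x8888888888)) (.node 1 (.leaf 0x8888888888) (.leaf 0x8888888888))) (.node 2 (.node 1 (.leaf 0x8888888888) (.leaf 0x8888888888)) (.node 1 (.leaf 0x8888888888) (.leaf 0x8888888888))))) (.node 8 (.node 4 (.node 2 (.node 1 (.leaf 0x8888888888) (.leaf 0x8888888888)) (.node 1 (.leaf 0x8888888888) (.leaf 0x8888888888))) (.node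 2 (.node 1 (.leaf 0x8888888888) (.leaf 0x8888888888)) (.node 1 (.leaf 0x8888888888) (.leaf 0x8888888888)))) (.node 4 (.node 2 (.node 1 (.leaf 0x8888888888) (.leaf 0x8888888888)) (.node 1 (.leaf 0x8888888888) (.leaf 0x8888888888))) (.node 2 (.node 1 (.leaf 0x8888888888) (.leaf 0x8888888888)) (.node 1 (.leaf 0x8888888888) (.leaf 0x8888888888)))))))

/-- Table data. -/
def tabVB_0_14 : Tab :=
  (.node 32 (.node 16 (.node 8 (.node 4 (.node 2 (.node 1 (.leaf 0x8888888888) (.leaf 0x8888888888)) (.node 1 (.leaf 0x8888888888) (.leaf 0x8888888888))) (.node 2 (.node 1 (.leaf 0x8888888888) (.leaf 0x8888888888)) (.node 1 (.leaf 0x8888888888) (.leaf 0x8888888888)))) (.node 4 (.node 2 (.node 1 (.leaf 0x8888888888) (.leaf 0x8888888888)) (.node 1 (.leaf 0x8888888888) (.leaf 0x8888888888))) (.node 2 (.node 1 (.leaf 0x8888888888) (.leaf 0x8888888888)) (.node 1 (.leaf 0x8888888888) (.leaf 0x8888888888))))) (.node 8 (.node 4 (.node 2 (.node 1 (.leaf 0x8888888888)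 (.leaf 0x8888888888)) (.node 1 (.leaf 0x8888888888) (.leaf 0x8888888888))) (.node 2 (.node 1 (.leaf 0x8888888888) (.leaf 0x8888888888)) (.node 1 (.leaf 0x8888888888) (.leaf 0x8888888888)))) (.node 4 (.node 2 (.node 1 (.leaf 0x8888888888) (.leaf 0x8888888888)) (.node 1 (.leaf 0x8888888888) (.leaf 0x8888888888))) (.node 2 (.node 1 (.leaf 0x8888888888) (.leaf 0x8888888888)) (.node 1 (.leaf 0x8888888888) (.leaf 0x8888888888)))))) (.node 16 (.node 8 (.node 4 (.node 2 (.node 1 (.leaf 0x8888888888) (.leaf 0x8888888888)) (.node 1 (.leaf 0x8888888888) (.leaf 0x8888888888))) (.node 2 (.node 1 (.leaf 0x8888888888) (.leaf 0x8888888888)) (.node 1 (.leaf 0x8888888888) (.leaf 0x8888888888)))) (.node 4 (.node 2 (.node 1 (.leaf 0x8888888888) (.leaf 0x8888888888)) (.node 1 (.leaf 0x8888888888) (.leaf 0x8888888888))) (.node 2 (.node 1 (.leaf 0x8888888888) (.leaf 0x8888888888)) (.node 1 (.leaf 0x8888888888) (.leaf 0x8888888888))))) (.node 8 (.node 4 (.node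 2 (.node 1 (.leaf 0x8888888888) (.leaf 0x8888888888)) (.node 1 (.leaf 0x8888888888) (.leaf 0x8888888888))) (.node 2 (.node 1 (.leaf 0x8888888888) (.leaf 0x8888888888)) (.node 1 (.leaf 0x8888888888) (.leaf 0x8888888888)))) (.node 4 (.node 2 (.node 1 (.leaf 0x8888888888) (.leaf 0x8888888888)) (.node 1 (.leaf 0x8888888888) (.leaf 0x8888888888))) (.node 2 (.node 1 (.leaf 0x8888888888) (.leaf 0x8888888888)) (.node 1 (.leaf 0x8888888888) (.leaf 0x8888888888)))))))

/-- Table data. -/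
def tabVB_0_15 : Tab :=
  (.node 32 (.node 16 (.node 8 (.node 4 (.node 2 (.node 1 (.leaf 0x8888888888) (.leaf 0x8888888888)) (.node 1 (.leaf 0x8888888888) (.leaf 0x8888888888))) (.node 2 (.node 1 (.leaf 0x8888888888) (.leaf 0x8888888888)) (.node 1 (.leaf 0x8888888888) (.leaf 0x8888888888)))) (.node 4 (.node 2 (.node 1 (.leaf 0x8888888888) (.leaf 0x8888888888)) (.node 1 (.leaf 0x8888888888) (.leaf 0x8888888888))) (.node 2 (.node 1 (.leaf 0x8888888888) (.leaf 0x8888888888)) (.node 1 (.leaf 0x8888888888) (.leaf 0x8888888888))))) (.node 8 (.node 4 (.node 2 (.node 1 (.leaf 0x8888888888) (.leaf 0x8888888888)) (.node 1 (.leaf 0x8888888888) (.leaf 0x8888888888))) (.node 2 (.node 1 (.leaf 0x8888888888) (.leaf 0x8888888888)) (.node 1 (.leaf 0x8888888888) (.leaf 0x8888888888)))) (.node 4 (.node 2 (.node 1 (.leaf 0x8888888888) (.leaf 0x8888888888)) (.node 1 (.leaf 0x8888888888) (.leaf 0x8888888888))) (.node 2 (.node 1 (.leaf 0x8888888888) (.leaf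 0x8888888888)) (.node 1 (.leaf 0x8888888888) (.leaf 0x8888888888)))))) (.node 16 (.node 8 (.node 4 (.node 2 (.node 1 (.leaf 0x8888888888) (.leaf 0x8888888888)) (.node 1 (.leaf 0x8888888888) (.leaf 0x8888888888))) (.node 2 (.node 1 (.leaf 0x8888888888) (.leaf 0x8888888888)) (.node 1 (.leaf 0x8888888888) (.leaf 0x8888888888)))) (.node 4 (.node 2 (.node 1 (.leaf 0x8888888888) (.leaf 0x8888888888)) (.node 1 (.leaf 0x8888888888) (.leaf 0x8888888888))) (.node 2 (.node 1 (.leaf 0x8888888888) (.leaf 0x8888888888)) (.node 1 (.leaf 0x8888888888) (.leaf 0x8888888888))))) (.node 8 (.node 4 (.node 2 (.node 1 (.leaf 0x8888888888) (.leaf 0x8888888888)) (.node 1 (.leaf 0x8888888888) (.leaf 0x8888888888))) (.node 2 (.node 1 (.leaf 0x8888888888) (.leaf 0x8888888888)) (.node 1 (.leaf 0x8888888888) (.leaf 0x8888888888)))) (.node 4 (.node 2 (.node 1 (.leaf 0x8888888888) (.leaf 0x8888888888)) (.node 1 (.leaf 0x8888888888) (.leaf 0x8888888888))) (.node 2 (.node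 1 (.leaf 0x8888888888) (.leaf 0x8888888888)) (.node 1 (.leaf 0x8888888888) (.leaf 0x8888888888)))))))

/-- Table data. -/
def tabVB_0_16 : Tab :=
  (.node 32 (.node 16 (.node 8 (.node 4 (.node 2 (.node 1 (.leaf 0x8888888888) (.leaf 0x8888888888)) (.node 1 (.leaf 0x8888888888) (.leaf 0x8888888888))) (.node 2 (.node 1 (.leaf 0x8888888888) (.leaf 0x8888888888)) (.node 1 (.leaf 0x8888888888) (.leaf 0x8888888888)))) (.node 4 (.node 2 (.node 1 (.leaf 0x8888888888) (.leaf 0x8888888888)) (.node 1 (.leaf 0x8888888888) (.leaf 0x8888888888))) (.node 2 (.node 1 (.leaf 0x8888888888) (.leaf 0x8888888888)) (.node 1 (.leaf 0x8888888888) (.leaf 0x8888888888))))) (.node 8 (.node 4 (.node 2 (.node 1 (.leaf 0x8888888888) (.leaf 0x8888888888)) (.node 1 (.leaf 0x8888888888) (.leaf 0x8888888888))) (.node 2 (.node 1 (.leaf 0x8888888888) (.leaf 0x8888888888)) (.node 1 (.leaf 0x8888888888) (.leaf 0x8888888888)))) (.node 4 (.node 2 (.node 1 (.leaf 0x8888888888)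 (.leaf 0x8888888888)) (.node 1 (.leaf 0x8888888888) (.leaf 0x8888888888))) (.node 2 (.node 1 (.leaf 0x8888888888) (.leaf 0x8888888888)) (.node 1 (.leaf 0x8888888888) (.leaf 0x8888888888)))))) (.node 16 (.node 8 (.node 4 (.node 2 (.node 1 (.leaf 0x8888888888) (.leaf 0x8888888888)) (.node 1 (.leaf 0x8888888888) (.leaf 0x8888888888))) (.node 2 (.node 1 (.leaf 0x8888888888) (.leaf 0x8888888888)) (.node 1 (.leaf 0x8888888888) (.leaf 0x8888888888)))) (.node 4 (.node 2 (.node 1 (.leaf 0x8888888888) (.leaf 0x8888888888)) (.node 1 (.leaf 0x8888888888) (.leaf 0x8888888888))) (.node 2 (.node 1 (.leaf 0x8888888888) (.leaf 0x8888888888)) (.node 1 (.leaf 0x8888888888) (.leaf 0x8888888888))))) (.node 8 (.node 4 (.node 2 (.node 1 (.leaf 0x8888888888) (.leaf 0x8888888888)) (.node 1 (.leaf 0x8888888888) (.leaf 0x8888888888))) (.node 2 (.node 1 (.leaf 0x8988888888) (.leaf 0x8988888988)) (.node 1 (.leaf 0x8989888888) (.leaf 0x8989888888)))) (.node 4 (.node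 2 (.node 1 (.leaf 0x8989888888) (.leaf 0x8989888888)) (.node 1 (.leaf 0x8888888988) (.leaf 0x8988888888))) (.node 2 (.node 1 (.leaf 0x8988898988) (.leaf 0x8989898988)) (.node 1 (.leaf 0x8989898988) (.leaf 0x8889888888)))))))

/-- Table data. -/
def tabVB_0_17 : Tab :=
  (.node 32 (.node 16 (.node 8 (.node 4 (.node 2 (.node 1 (.leaf 0x8888898888) (.leaf 0x8889888888)) (.node 1 (.leaf 0x8888888889) (.leaf 0x8888888989))) (.node 2 (.node 1 (.leaf 0x8888898889) (.leaf 0x8888898989)) (.node 1 (.leaf 0x8888898988) (.leaf 0x8888888898)))) (.node 4 (.node 2 (.node 1 (.leaf 0x8888888898) (.leaf 0x8888888898)) (.node 1 (.leaf 0x9888888888) (.leaf 0x9889888888))) (.node 2 (.node 1 (.leaf 0x9888888888) (.leaf 0x9889898888)) (.node 1 (.leaf 0x8989898999) (.leaf 0x8888898988))))) (.node 8 (.node 4 (.node 2 (.node 1 (.leaf 0x8989888998) (.leaf 0x8989888998)) (.node 1 (.leaf 0x8888898988) (.leaf 0x9988898999))) (.node 2 (.node 1 (.leaf 0x9988888998)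 (.leaf 0x8888898889)) (.node 1 (.leaf 0x9988888998) (.leaf 0x8998888898)))) (.node 4 (.node 2 (.node 1 (.leaf 0x8998888898) (.leaf 0x8998888898)) (.node 1 (.leaf 0x8989888898) (.leaf 0x8989888898))) (.node 2 (.node 1 (.leaf 0x8888888988) (.leaf 0x8989898888)) (.node 1 (.leaf 0x8888888899) (.leaf 0x8989898888)))))) (.node 16 (.node 8 (.node 4 (.node 2 (.node 1 (.leaf 0x8989898888) (.leaf 0x8989898888)) (.node 1 (.leaf 0x8989898888) (.leaf 0x8989898888))) (.node 2 (.node 1 (.leaf 0x9988888988) (.leaf 0x8888888898)) (.node 1 (.leaf 0x8888888898) (.leaf 0x8888888898)))) (.node 4 (.node 2 (.node 1 (.leaf 0x8888888898) (.leaf 0x8888888898)) (.node 1 (.leaf 0x8888889898) (.leaf 0x9888898898))) (.node 2 (.node 1 (.leaf 0x8889888888) (.leaf 0x9889898889)) (.node 1 (.leaf 0x8888898889) (.leaf 0x8989898898))))) (.node 8 (.node 4 (.node 2 (.node 1 (.leaf 0x8888888988) (.leaf 0x8989898998)) (.node 1 (.leaf 0x8989888998) (.leaf 0x8989888998))) (.node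 2 (.node 1 (.leaf 0x8989888998) (.leaf 0x9989898988)) (.node 1 (.leaf 0x8888888898) (.leaf 0x8888888898)))) (.node 4 (.node 2 (.node 1 (.leaf 0x8888889898) (.leaf 0x8888898988)) (.node 1 (.leaf 0x8888888888) (.leaf 0x8888888888))) (.node 2 (.node 1 (.leaf 0x9888888988) (.leaf 0x9989898988)) (.node 1 (.leaf 0x9989898988) (.leaf 0x9989898988)))))))

/-- Table data. -/
def tabVB_0_18 : Tab :=
  (.node 32 (.node 16 (.node 8 (.node 4 (.node 2 (.node 1 (.leaf 0x9989898988) (.leaf 0x9989898988)) (.node 1 (.leaf 0x8998888898) (.leaf 0x8998888898))) (.node 2 (.node 1 (.leaf 0x8998888898) (.leaf 0x8988998998)) (.node 1 (.leaf 0x8989998998) (.leaf 0x8989999998)))) (.node 4 (.node 2 (.node 1 (.leaf 0x8888888888) (.leaf 0x8888888888)) (.node 1 (.leaf 0x8888899989) (.leaf 0x8888899999))) (.node 2 (.node 1 (.leaf 0x8888899889) (.leaf 0x8888898889)) (.node 1 (.leaf 0x8888898999) (.leaf 0x8888898999))))) (.node 8 (.node 4 (.node 2 (.node 1 (.leaf 0x8888899899)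 (.leaf 0x8888889899)) (.node 1 (.leaf 0x8888889999) (.leaf 0x8888888999))) (.node 2 (.node 1 (.leaf 0x8888898889) (.leaf 0x9988898998)) (.node 1 (.leaf 0x9988888889) (.leaf 0x8989988899)))) (.node 4 (.node 2 (.node 1 (.leaf 0x8989988899) (.leaf 0x8888998899)) (.node 1 (.leaf 0x8888888988) (.leaf 0x8888888989))) (.node 2 (.node 1 (.leaf 0x8888888989) (.leaf 0x8888888989)) (.node 1 (.leaf 0x8989888999) (.leaf 0x8989899989)))))) (.node 16 (.node 8 (.node 4 (.node 2 (.node 1 (.leaf 0x8989899889) (.leaf 0x8989898889)) (.node 1 (.leaf 0x8989888889) (.leaf 0x8989889889))) (.node 2 (.node 1 (.leaf 0x9888898988) (.leaf 0x9998898999)) (.node 1 (.leaf 0x8888888888) (.leaf 0x8888888888)))) (.node 4 (.node 2 (.node 1 (.leaf 0x8889888888) (.leaf 0x9888998989)) (.node 1 (.leaf 0x8889888888) (.leaf 0x9989898998))) (.node 2 (.node 1 (.leaf 0x8889888888) (.leaf 0x9989898998)) (.node 1 (.leaf 0x8889888888) (.leaf 0x8889888898))))) (.node 8 (.node 4 (.node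 2 (.node 1 (.leaf 0x8889888898) (.leaf 0x8988898999)) (.node 1 (.leaf 0x8988898999) (.leaf 0x8988988999))) (.node 2 (.node 1 (.leaf 0x9989898899) (.leaf 0x8988898899)) (.node 1 (.leaf 0x8989898899) (.leaf 0x8889888988)))) (.node 4 (.node 2 (.node 1 (.leaf 0x9988898999) (.leaf 0x8889888988)) (.node 1 (.leaf 0x9988898999) (.leaf 0x8999898899))) (.node 2 (.node 1 (.leaf 0x8999898999) (.leaf 0x8999898899)) (.node 1 (.leaf 0x8999888999) (.leaf 0x8888888889)))))))

/-- Table data. -/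
def tabVB_0_19 : Tab :=
  (.node 32 (.node 16 (.node 8 (.node 4 (.node 2 (.node 1 (.leaf 0x9889898889) (.leaf 0x9889898889)) (.node 1 (.leaf 0x9889898889) (.leaf 0x9888888898))) (.node 2 (.node 1 (.leaf 0x8889888988) (.leaf 0x8989888989)) (.node 1 (.leaf 0x8888898988) (.leaf 0x8889998999)))) (.node 4 (.node 2 (.node 1 (.leaf 0x8888898988) (.leaf 0x8888898988)) (.node 1 (.leaf 0x8888898988) (.leaf 0x8999888988))) (.node 2 (.node 1 (.leaf 0x8999888888) (.leaf 0x8888888888)) (.node 1 (.leaf 0x8889988899) (.leaf 0x9889998899))))) (.node 8 (.node 4 (.node 2 (.node 1 (.leaf 0x9889998899) (.leaf 0x8889998999)) (.node 1 (.leaf 0x9889998889) (.leaf 0x8998988999))) (.node 2 (.node 1 (.leaf 0x8889998999) (.leaf 0x8989898888)) (.node 1 (.leaf 0x8989898888) (.leaf 0x8988899899)))) (.node 4 (.node 2 (.node 1 (.leaf 0x8888888889) (.leaf 0x8888888889)) (.node 1 (.leaf 0x8888888889) (.leaf 0x8888888889))) (.node 2 (.node 1 (.leaf 0x8889998989) (.leaf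 0x8889898898)) (.node 1 (.leaf 0x8988888898) (.leaf 0x8988888898)))))) (.node 16 (.node 8 (.node 4 (.node 2 (.node 1 (.leaf 0x8988898998) (.leaf 0x8988898998)) (.node 1 (.leaf 0x8988898998) (.leaf 0x8988898998))) (.node 2 (.node 1 (.leaf 0x8899898898) (.leaf 0x8989998889)) (.node 1 (.leaf 0x8899898898) (.leaf 0x8899898898)))) (.node 4 (.node 2 (.node 1 (.leaf 0x8899898898) (.leaf 0x8899898898)) (.node 1 (.leaf 0x8899898898) (.leaf 0x9888898988))) (.node 2 (.node 1 (.leaf 0x8898888889) (.leaf 0x8989888988)) (.node 1 (.leaf 0x8989888988) (.leaf 0x8889988899))))) (.node 8 (.node 4 (.node 2 (.node 1 (.leaf 0x9988998999) (.leaf 0x8989888988)) (.node 1 (.leaf 0x9988998999) (.leaf 0x8889998999))) (.node 2 (.node 1 (.leaf 0x8889888988) (.leaf 0x8888998999)) (.node 1 (.leaf 0x8888998899) (.leaf 0x8888888988)))) (.node 4 (.node 2 (.node 1 (.leaf 0x8888888988) (.leaf 0x8888998889)) (.node 1 (.leaf 0x8888888988) (.leaf 0x8888898988))) (.node 2 (.node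 1 (.leaf 0x8889898888) (.leaf 0x8889898888)) (.node 1 (.leaf 0x8888998899) (.leaf 0x8889998999)))))))

/-- Table data. -/
def tabVB_0_20 : Tab :=
  (.node 32 (.node 16 (.node 8 (.node 4 (.node 2 (.node 1 (.leaf 0x8889998999) (.leaf 0x8888888888)) (.node 1 (.leaf 0x8888898988) (.leaf 0x8899888888))) (.node 2 (.node 1 (.leaf 0x8899888888) (.leaf 0x8899888888)) (.node 1 (.leaf 0x8998888899) (.leaf 0x9998898999)))) (.node 4 (.node 2 (.node 1 (.leaf 0x8988998899) (.leaf 0x8989888988)) (.node 1 (.leaf 0x8989888988) (.leaf 0x8889998999))) (.node 2 (.node 1 (.leaf 0x8889998999) (.leaf 0x8988898988)) (.node 1 (.leaf 0x9988889888) (.leaf 0x8888888888))))) (.node 8 (.node 4 (.node 2 (.node 1 (.leaf 0x8888888888) (.leaf 0x8888888888)) (.node 1 (.leaf 0x8888889888) (.leaf 0x8989888988))) (.node 2 (.node 1 (.leaf 0x8889998999) (.leaf 0x9888888998)) (.node 1 (.leaf 0x8889998999) (.leaf 0x8889988899)))) (.node 4 (.node 2 (.node 1 (.leaf 0x8888888888)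 (.leaf 0x8888888888)) (.node 1 (.leaf 0x8888888888) (.leaf 0x8888888888))) (.node 2 (.node 1 (.leaf 0x8998898888) (.leaf 0x9898988899)) (.node 1 (.leaf 0x9898998899) (.leaf 0x8889998889)))))) (.node 16 (.node 8 (.node 4 (.node 2 (.node 1 (.leaf 0x8988998989) (.leaf 0x9988988999)) (.node 1 (.leaf 0x9988988999) (.leaf 0x9988988999))) (.node 2 (.node 1 (.leaf 0x9988988999) (.leaf 0x9898998899)) (.node 1 (.leaf 0x9888898988) (.leaf 0x9888898988)))) (.node 4 (.node 2 (.node 1 (.leaf 0x8888898988) (.leaf 0x8888898988)) (.node 1 (.leaf 0x8889988899) (.leaf 0x8988888899))) (.node 2 (.node 1 (.leaf 0x8999888898) (.leaf 0x8999888898)) (.node 1 (.leaf 0x8888898888) (.leaf 0x8888888888))))) (.node 8 (.node 4 (.node 2 (.node 1 (.leaf 0x8888888888) (.leaf 0x8989898888)) (.node 1 (.leaf 0x8989898888) (.leaf 0x8888888899))) (.node 2 (.node 1 (.leaf 0x8888888899) (.leaf 0x8888888899)) (.node 1 (.leaf 0x8889888999) (.leaf 0x8889888999)))) (.node 4 (.node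 2 (.node 1 (.leaf 0x8889888999) (.leaf 0x8888888888)) (.node 1 (.leaf 0x8889998999) (.leaf 0x8989889998))) (.node 2 (.node 1 (.leaf 0x8989889898) (.leaf 0x9998898998)) (.node 1 (.leaf 0x9888888888) (.leaf 0x9888888888)))))))

/-- Table data. -/
def tabVB_0_21 : Tab :=
  (.node 32 (.node 16 (.node 8 (.node 4 (.node 2 (.node 1 (.leaf 0x9898888988) (.leaf 0x9988889888)) (.node 1 (.leaf 0x9999898888) (.leaf 0x8888898888))) (.node 2 (.node 1 (.leaf 0x9888898888) (.leaf 0x9889898889)) (.node 1 (.leaf 0x8888888889) (.leaf 0x8989898888)))) (.node 4 (.node 2 (.node 1 (.leaf 0x8989898899) (.leaf 0x8888888889)) (.node 1 (.leaf 0x8888888889) (.leaf 0x8889998889))) (.node 2 (.node 1 (.leaf 0x8888888898) (.leaf 0x8888989889)) (.node 1 (.leaf 0x8988899988) (.leaf 0x8989999999))))) (.node 8 (.node 4 (.node 2 (.node 1 (.leaf 0x8988899988) (.leaf 0x9988898999)) (.node 1 (.leaf 0x9988889999) (.leaf 0x9988889899))) (.node 2 (.node 1 (.leaf 0x9999899899)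 (.leaf 0x8888888898)) (.node 1 (.leaf 0x8988898999) (.leaf 0x8989898898)))) (.node 4 (.node 2 (.node 1 (.leaf 0x8888888898) (.leaf 0x9998898988)) (.node 1 (.leaf 0x9999898998) (.leaf 0x8889888888))) (.node 2 (.node 1 (.leaf 0x8888888898) (.leaf 0x8888888898)) (.node 1 (.leaf 0x8889888888) (.leaf 0x8889888898)))))) (.node 16 (.node 8 (.node 4 (.node 2 (.node 1 (.leaf 0x8889888898) (.leaf 0x8889888898)) (.node 1 (.leaf 0x8889888888) (.leaf 0x8889888888))) (.node 2 (.node 1 (.leaf 0x8988988998) (.leaf 0x8889888989)) (.node 1 (.leaf 0x8889888989) (.leaf 0x8988898989)))) (.node 4 (.node 2 (.node 1 (.leaf 0x8988898989) (.leaf 0x8988898989)) (.node 1 (.leaf 0x8988898989) (.leaf 0x9988888889))) (.node 2 (.node 1 (.leaf 0x9988898888) (.leaf 0x9988898888)) (.node 1 (.leaf 0x8899889899) (.leaf 0x8888889899))))) (.node 8 (.node 4 (.node 2 (.node 1 (.leaf 0x9988888988) (.leaf 0x8888898899)) (.node 1 (.leaf 0x8888898899) (.leaf 0x8888898899))) (.node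 2 (.node 1 (.leaf 0x9888888999) (.leaf 0x9888888999)) (.node 1 (.leaf 0x8888888999) (.leaf 0x9889888898)))) (.node 4 (.node 2 (.node 1 (.leaf 0x8899898899) (.leaf 0x8989889889)) (.node 1 (.leaf 0x8998899898) (.leaf 0x8998899998))) (.node 2 (.node 1 (.leaf 0x9988899889) (.leaf 0x8888898889)) (.node 1 (.leaf 0x8888898889) (.leaf 0x8988888888)))))))

/-- Table data. -/
def tabVB_0_22 : Tab :=
  (.node 20 (.node 10 (.node 5 (.node 2 (.node 1 (.leaf 0x9989889898) (.leaf 0x9888999989)) (.node 1 (.leaf 0x8888998889) (.node 1 (.leaf 0x8889888898) (.leaf 0x8888888898)))) (.node 2 (.node 1 (.leaf 0x8888888898) (.leaf 0x8888888898)) (.node 1 (.leaf 0x9888898898) (.node 1 (.leaf 0x9888898898) (.leaf 0x8888898989))))) (.node 5 (.node 2 (.node 1 (.leaf 0x8988889889) (.leaf 0x8889998998)) (.node 1 (.leaf 0x9889898888) (.node 1 (.leaf 0x8889988989) (.leaf 0x9989899888)))) (.node 2 (.node 1 (.leaf 0x9888988999) (.leaf 0x8998989989)) (.node 1 (.leaf 0x9989898898)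 (.node 1 (.leaf 0x9989899888) (.leaf 0x8998989989)))))) (.node 10 (.node 5 (.node 2 (.node 1 (.leaf 0x9888988999) (.leaf 0x8889898889)) (.node 1 (.leaf 0x8889898888) (.node 1 (.leaf 0x9888888989) (.leaf 0x8998888899)))) (.node 2 (.node 1 (.leaf 0x9889898888) (.leaf 0x9999899888)) (.node 1 (.leaf 0x9999899888) (.node 1 (.leaf 0x9989988989) (.leaf 0x8989998889))))) (.node 5 (.node 2 (.node 1 (.leaf 0x8888889998) (.leaf 0x8888889998)) (.node 1 (.leaf 0x8888889998) (.node 1 (.leaf 0x8888889998) (.leaf 0x8899889888)))) (.node 3 (.node 1 (.leaf 0x8888889998) (.node 1 (.leaf 0x8899898898) (.leaf 0x8899898898))) (.node 1 (.leaf 0x8899888998) (.node 1 (.leaf 0x8899998989) (.leaf 0x8899998989)))))))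

/-- Table data. -/
def tabVB_0 : Tab :=
  (.node 704 (.node 320 (.node 128 (.node 64 tabVB_0_0 tabVB_0_1) (.node 64 tabVB_0_2 (.node 64 tabVB_0_3 tabVB_0_4))) (.node 192 (.node 64 tabVB_0_5 (.node 64 tabVB_0_6 tabVB_0_7)) (.node 64 tabVB_0_8 (.node 64 tabVB_0_9 tabVB_0_10)))) (.node 384 (.node 192 (.node 64 tabVB_0_11 (.node 64 tabVB_0_12 tabVB_0_13)) (.node 64 tabVB_0_14 (.node 64 tabVB_0_15 tabVB_0_16))) (.node 192 (.node 64 tabVB_0_17 (.node 64 tabVB_0_18 tabVB_0_19)) (.node 64 tabVB_0_20 (.node 64 tabVB_0_21 tabVB_0_22)))))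

end Cfsg.Lib.CosetEnum.RuStemG
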