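import Cfsg.Agent.Lib.CosetEnum.Stem.Defs
import Cfsg.Agent.Lib.CosetEnum.RuStemG.TabFA_Data0
import Cfsg.Agent.Lib.CosetEnum.RuStemG.TabCA_Data0
import Cfsg.Agent.Lib.CosetEnum.RuStemG.TabVA_Data0
import Cfsg.Agent.Lib.CosetEnum.RuStemG.TabFB_Data0
import Cfsg.Agent.Lib.CosetEnum.RuStemG.TabCB_Data0
import Cfsg.Agent.Lib.CosetEnum.RuStemG.TabVB_Data0

/-! Generated certificate. -/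

set_option autoImplicit false
set_option maxRecDepth 20000

namespace Cfsg.Lib.CosetEnum.RuStemG

open Stem

/-- Table. -/
def tabFA : Tab :=
  tabFA_0

/-- Table. -/
def tabCA : Tab :=
  tabCA_0

/-- Table. -/
def tabVA : Tab :=
  tabVA_0

/-- Relator words. -/
def relWordsA : List (List Nat) :=
  [[0, 0],
    [1, 1],
    [2, 2],
    [4, 4],
    [0, 1, 3, 4, 1, 5, 4, 2, 1, 4, 1, 0, 2, 1, 0, 5, 2, 1, 0, 1, 0, 1, 3, 2, 1, 0, 1, 0, 2, 1, 5, 0, 1, 3, 2],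
    [1, 5, 1, 5],
    [5, 3, 5, 3],
    [2, 5, 2, 5],
    [3, 2, 3, 2],
    [5, 4, 5, 4],
    [1, 0, 3, 1, 3, 4, 1, 0, 5, 0, 1, 4, 3, 1, 3, 0, 1, 0, 5, 0, 1, 0, 1, 3, 4, 1, 0, 1, 5, 0],
    [1, 2, 1, 2],
    [2, 4, 2, 4, 2, 4],
    [4, 1, 4, 1, 4, 1],
    [2, 1, 4, 1, 0, 2, 1, 0, 5, 2, 1, 0, 1, 0, 1, 3, 2, 1, 0, 1, 0, 2, 1, 5, 0, 1, 3, 2, 0, 1, 3, 4, 1, 5, 4],
    [4, 1, 2, 4, 5, 1, 4, 3, 1, 0, 2, 3, 1, 0, 5, 1, 2, 0, 1, 0, 1, 2, 3, 1, 0, 1, 0, 1, 2, 5, 0, 1, 2, 0, 1],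
    [2, 0, 2, 0, 2, 0],
    [4, 0, 4, 0],
    [3, 1, 3, 1, 3, 1],
    [2, 1, 5, 0, 1, 3, 2, 0, 1, 3, 4, 2, 4, 5, 2, 1, 4, 0, 2, 0, 1, 0, 5, 2, 1, 0, 1, 0, 1, 3, 2, 1, 0, 1, 0],
    [2, 4, 1, 0, 2, 0, 1, 0, 5, 2, 1, 0, 1, 0, 1, 3, 2, 1, 0, 1, 0, 2, 1, 5, 0, 1, 2, 0, 1, 3, 5],
    [3, 0, 3, 0],
    [2, 3, 2, 3],
    [4, 5, 4, 5],
    [1, 5, 0, 1, 2, 0, 1, 3, 5, 4, 2, 4, 1, 0, 2, 1, 0, 5, 2, 1, 0, 1, 0, 1, 3, 2, 1, 0, 1, 0, 2],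
    [5, 0, 1, 4, 3, 1, 3, 0, 1, 0, 5, 1, 0, 1, 4, 3, 1, 0, 1, 0, 5, 0, 1, 0, 3, 1, 3, 4, 1, 0],
    [1, 4, 1, 4, 1, 4],
    [0, 5, 0, 5, 0, 5],
    [0, 3, 0, 3],
    [0, 3, 0, 3],
    [0, 1, 0, 1, 0, 1, 0, 1, 0, 1, 0, 1, 0, 1, 0, 1],
    [0, 1, 0, 1, 0, 1, 0, 1, 0, 1, 0, 1, 0, 1, 0, 1],
    [0, 4, 0, 4],
    [0, 4, 0, 4],
    [0, 2, 0, 2, 0, 2],
    [0, 2, 0, 2, 0, 2],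
    [0, 5, 0, 5, 0, 5],
    [0, 5, 0, 5, 0, 5],
    [3, 1, 3, 1, 3, 1],
    [3, 1, 3, 1, 3, 1],
    [3, 4, 3, 4],
    [3, 4, 3, 4],
    [3, 2, 3, 2],
    [3, 2, 3, 2],
    [3, 5, 3, 5],
    [3, 5, 3, 5],
    [1, 4, 1, 4, 1, 4],
    [1, 4, 1, 4, 1, 4],
    [1, 2, 1, 2],
    [1, 2, 1, 2],
    [1, 5, 1, 5],
    [1, 5, 1, 5],
    [4, 2, 4, 2, 4, 2],
    [4, 2, 4, 2, 4, 2],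
    [4, 5, 4, 5],
    [4, 5, 4, 5],
    [2, 5, 2, 5],
    [2, 5, 2, 5],
    [0, 3, 1, 0, 4, 1, 0, 1, 4, 0, 1, 3, 0, 1, 0, 1],
    [0, 3, 1, 0, 4, 1, 0, 1, 4, 0, 1, 3, 0, 1, 0, 1]]

/-- Their values. -/
def relValsA : List (List Int) :=
  [[0, 0, 0, 0, 0, 0, 0, 0, 0, 0],
    [0, 0, 0, 0, 0, 0, 0, 0, 0, 0],
    [0, 0, 0, 0, 0, 0, 0, 0, 0, 0],
    [0, 0, 0, 0, 0, 0, 0, 0, 0, 0],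
    [0, 0, 0, 0, 0, 0, 0, 0, 1, 0],
    [0, 0, 1, 0, 0, 0, 0, 0, 0, 0],
    [0, 1, 0, 0, 0, 0, 0, 0, 0, 0],
    [0, 0, 0, 0, 1, 0, 0, 0, 0, 0],
    [0, 0, 0, 0, 0, 0, 0, 0, 0, 0],
    [0, 0, 0, 1, 0, 0, 0, 0, 0, 0],
    [0, 0, 0, 0, 0, 1, 0, 0, 0, 0],
    [0, 0, 0, 0, 0, 0, 0, 0, 0, 0],
    [0, 0, 0, 0, 0, 0, 0, 0, 0, 0],
    [0, 0, 0, 0, 0, 0, 0, 0, 0, 0],
    [0, 0, 0, 0, 0, 0, 0, 0, 1, 0],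
    [0, 0, 0, 0, 0, 0, 0, 0, -1, 0],
    [0, 0, 0, 0, 0, 0, 0, 0, 0, 0],
    [0, 0, 0, 0, 0, 0, 0, 0, 0, 0],
    [0, 0, 0, 0, 0, 0, 0, 0, 0, 0],
    [0, 0, 0, 0, 0, 0, 0, 0, 0, 1],
    [0, 0, 0, 0, 0, 0, 0, 1, 0, 0],
    [0, 0, 0, 0, 0, 0, 0, 0, 0, 0],
    [0, 0, 0, 0, 0, 0, 0, 0, 0, 0],
    [0, 0, 0, 1, 0, 0, 0, 0, 0, 0],
    [0, 0, 0, 0, 0, 0, 1, 0, 0, 0],
    [0, 0, 0, 0, 0, -1, 0, 0, 0, 0],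
    [0, 0, 0, 0, 0, 0, 0, 0, 0, 0],
    [1, 0, 0, 0, 0, 0, 0, 0, 0, 0],
    [0, 0, 0, 0, 0, 0, 0, 0, 0, 0],
    [0, 0, 0, 0, 0, 0, 0, 0, 0, 0],
    [0, 0, 0, 0, 0, 0, 0, 0, 0, 0],
    [0, 0, 0, 0, 0, 0, 0, 0, 0, 0],
    [0, 0, 0, 0, 0, 0, 0, 0, 0, 0],
    [0, 0, 0, 0, 0, 0, 0, 0, 0, 0],
    [0, 0, 0, 0, 0, 0, 0, 0, 0, 0],
    [0, 0, 0, 0, 0, 0, 0, 0, 0, 0],
    [1, 0, 0, 0, 0, 0, 0, 0, 0, 0],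
    [-1, 0, 0, 0, 0, 0, 0, 0, 0, 0],
    [0, 0, 0, 0, 0, 0, 0, 0, 0, 0],
    [0, 0, 0, 0, 0, 0, 0, 0, 0, 0],
    [0, 0, 0, 0, 0, 0, 0, 0, 0, 0],
    [0, 0, 0, 0, 0, 0, 0, 0, 0, 0],
    [0, 0, 0, 0, 0, 0, 0, 0, 0, 0],
    [0, 0, 0, 0, 0, 0, 0, 0, 0, 0],
    [0, 1, 0, 0, 0, 0, 0, 0, 0, 0],
    [0, -1, 0, 0, 0, 0, 0, 0, 0, 0],
    [0, 0, 0, 0, 0, 0, 0, 0, 0, 0],
    [0, 0, 0, 0, 0, 0, 0, 0, 0, 0],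
    [0, 0, 0, 0, 0, 0, 0, 0, 0, 0],
    [0, 0, 0, 0, 0, 0, 0, 0, 0, 0],
    [0, 0, 1, 0, 0, 0, 0, 0, 0, 0],
    [0, 0, -1, 0, 0, 0, 0, 0, 0, 0],
    [0, 0, 0, 0, 0, 0, 0, 0, 0, 0],
    [0, 0, 0, 0, 0, 0, 0, 0, 0, 0],
    [0, 0, 0, 1, 0, 0, 0, 0, 0, 0],
    [0, 0, 0, -1, 0, 0, 0, 0, 0, 0],
    [0, 0, 0, 0, 1, 0, 0, 0, 0, 0],
    [0, 0, 0, 0, -1, 0, 0, 0, 0, 0],
    [0, 0, 0, 0, 0, 0, 0, 0, 0, 0],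
    [0, 0, 0, 0, 0, 0, 0, 0, 0, 0]]

/-- Their sources. -/
def srcsA : List (Nat × Nat × Bool) :=
  [(0, 0, false), (1, 0, false), (2, 0, false), (4, 0, false), (28, 17, false), (17, 0, false), (14, 1, false), (20, 0, false), (13, 0, false), (19, 1, false), (25, 29, false), (16, 0, false), (18, 1, false), (15, 1, false), (28, 24, false), (28, 8, true), (9, 1, false), (8, 1, false), (11, 0, false), (29, 10, false), (27, 20, false), (6, 1, false), (13, 1, false), (19, 0, false), (26, 11, false), (25, 22, true), (15, 0, false), (10, 0, false), (6, 0, false), (6, 1, true), (7, 0, false), (7, 1, true), (8, 0, false), (8, 1, true), (9, 0, false), (9, 1, true), (10, 0, false), (10, 1, true), (11, 0, false), (11, 1, true), (12, 0, false),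 (12, 1, true), (13, 0, false), (13, 1, true), (14, 0, false), (14, 1, true), (15, 0, false), (15, 1, true), (16, 0, false), (16, 1, true), (17, 0, false), (17, 1, true), (18, 0, false), (18, 1, true), (19, 0, false), (19, 1, true), (20, 0, false), (20, 1, true), (23, 0, false), (23, 3, true)]

/-- Closed paths. -/
def pathsA : List (List Nat × List Int) :=
  [([15, 5, 39, 4, 44, 3, 44, 2, 1, 0, 38, 41, 40, 38, 37, 39, 40, 38, 37, 0, 43, 42, 43, 23, 22, 21, 20, 19, 18, 17, 16, 15, 14, 13, 12, 11, 10, 9, 8, 7, 6, 5], [0, 0, -2, 0, 0, 0, -2, 0, 2, 0]),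
    ([12, 1, 15, 50, 23, 43, 1, 48, 50, 23, 43, 1, 48, 50, 23, 43, 1, 48], [0, 0, -3, 0, -3, 0, 6, 0, -6, 0]),
    ([14, 1, 41, 50, 23, 42, 1, 48, 43, 42, 50, 22, 53, 7, 8, 9, 10, 11, 12, 13, 14, 15, 16, 17, 18, 19, 20, 21, 22, 23, 42, 0, 37, 38, 40, 39, 37, 38, 40, 41, 38, 0, 1, 48], [0, 0, -1, 0, -2, 0, 1, 0, -1, 0]),
    ([19, 1, 41, 50, 23, 42, 0, 37, 38, 40, 39, 37, 38, 40, 41, 39, 41, 0, 50, 23, 42, 1, 48, 50, 22, 53, 7, 54, 8, 9, 10, 11, 12, 13, 14, 15, 16, 17, 18, 19, 20, 21, 22, 50], [0, 0, 1, 0, -1, 0, -1, 0, 2, -1]),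
    ([20, 1, 37, 50, 23, 43, 1, 48, 43, 42, 50, 22, 53, 7, 54, 8, 9, 10, 11, 12, 13, 14, 15, 16, 17, 18, 19, 20, 21, 22, 23, 42, 0, 37, 38, 39, 37, 38, 40, 0], [0, 0, 1, 0, -1, 0, -1, -1, 2, 0]),
    ([9, 7, 8, 53, 55, 53, 46, 53, 55, 53, 46], [2, 0, 0, -1, 0, 0, -2, 0, 2, 0]),
    ([23, 1, 5, 1, 48, 0, 41, 0], [0, 0, -1, -1, 0, 0, 2, 0, -2, 0]),
    ([18, 1, 9, 56, 43, 42, 56, 43, 42, 56, 43, 42], [0, 3, -3, 0, 0, 0, 0, 0, 0, 0]),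
    ([22, 25, 5, 25, 64, 17, 18, 24], [0, 0, 8, 0, 1, 0, -5, 0, 7, 0]),
    ([25, 37, 32, 65, 36, 35, 34, 33, 32, 31, 20, 21, 22, 50, 0, 38, 37, 38, 41, 40, 38, 37, 38, 37, 0, 50, 22, 21, 20, 31, 32, 33, 34, 35, 36], [0, 0, 0, 0, 0, 2, 0, 0, 0, 0])]

/-- The certificate. -/
def certA : VCert :=
  ⟨relWordsA, relValsA, [[0],
    [1],
    [2],
    [3],
    [4]], tabFA, tabCA, tabVA, 37, 29, 10, 256, 0, pathsA⟩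

/-- Table. -/
def tabFB : Tab :=
  tabFB_0

/-- Table. -/
def tabCB : Tab :=
  tabCB_0

/-- Table. -/
def tabVB : Tab :=
  tabVB_0

/-- Relator words. -/
def relWordsB : List (List Nat) :=
  [[0, 0],
    [1, 1],
    [2, 2],
    [3, 3],
    [4, 4],
    [5, 5],
    [0, 1, 3, 4, 1, 5, 4, 2, 1, 4, 1, 0, 2, 1, 0, 5, 2, 1, 0, 1, 0, 1, 3, 2, 1, 0, 1, 0, 2, 1, 5, 0, 1, 3, 2],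
    [0, 2, 0, 2, 0, 2],
    [2, 0, 1, 0, 1, 0, 1, 2, 0, 1, 0, 2, 1, 0, 1, 0, 1, 0, 2, 1, 0, 1, 0, 2, 1, 0, 1, 0, 1, 0, 1, 2, 0, 1, 0, 1, 2, 0, 1, 0, 1, 0, 1, 2, 0, 1, 0, 1],
    [0, 4, 0, 4],
    [1, 5, 1, 5],
    [3, 0, 1, 0, 1, 0, 3, 1, 0, 4, 1, 0, 1, 4, 0, 1],
    [5, 3, 5, 3],
    [1, 3, 1, 3, 1, 3],
    [2, 5, 2, 5],
    [1, 0, 1, 0, 2, 0, 1, 0, 1, 0, 2, 0, 1, 0, 1, 0, 2, 0, 1, 0, 1, 0, 2, 0, 1, 0, 1, 0, 2, 0, 1, 0, 1, 2, 0, 1, 0, 2, 0],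
    [0, 1, 3, 2, 1, 0, 1, 0, 2, 1, 5, 0, 1, 3, 2, 0, 1, 3, 4, 2, 4, 5, 2, 1, 4, 0, 2, 0, 1, 0, 5, 2, 1, 0, 1],
    [0, 1, 3, 5, 2, 4, 1, 0, 2, 0, 1, 0, 5, 2, 1, 0, 1, 0, 1, 3, 2, 1, 0, 1, 0, 2, 1, 5, 0, 1, 2],
    [3, 4, 3, 4],
    [0, 3, 0, 3],
    [3, 2, 3, 2],
    [5, 4, 5, 4],
    [1, 2, 0, 1, 3, 5, 4, 2, 4, 1, 0, 2, 1, 0, 5, 2, 1, 0, 1, 0, 1, 3, 2, 1, 0, 1, 0, 2, 1, 5, 0],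
    [1, 0, 3, 1, 3, 4, 1, 0, 5, 0, 1, 4, 3, 1, 3, 0, 1, 0, 5, 0, 1, 0, 1, 3, 4, 1, 0, 1, 5, 0],
    [1, 2, 1, 2],
    [1, 0, 2, 0, 1, 0, 1, 2, 0, 3, 1, 0, 4, 1, 2, 0, 1, 0, 2, 1, 4, 0, 1, 3, 0],
    [2, 4, 2, 4, 2, 4],
    [4, 1, 4, 1, 4, 1],
    [5, 0, 5, 0, 5, 0],
    [0, 1, 0, 1, 0, 1, 0, 1, 0, 1, 0, 1, 0, 1, 0, 1],
    [2, 1, 4, 1, 0, 2, 1, 0, 5, 2, 1, 0, 1, 0, 1, 3, 2, 1, 0, 1, 0, 2, 1, 5, 0, 1, 3, 2, 0, 1, 3, 4, 1, 5, 4],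
    [2, 0, 2, 0, 2, 0],
    [4, 0, 4, 0],
    [5, 1, 5, 1],
    [0, 3, 1, 0, 4, 1, 0, 1, 4, 0, 1, 3, 0, 1, 0, 1],
    [4, 1, 0, 1, 4, 0, 1, 3, 0, 1, 0, 1, 0, 3, 1, 0],
    [0, 1, 4, 0, 1, 3, 0, 1, 0, 1, 0, 3, 1, 0, 4, 1],
    [3, 5, 3, 5],
    [3, 1, 3, 1, 3, 1],
    [5, 2, 5, 2],
    [0, 1, 0, 2, 0, 1, 0, 1, 0, 2, 0, 1, 0, 1, 0, 2, 0, 1, 0, 1, 0, 2, 0, 1, 0, 1, 2, 0, 1, 0, 2, 0, 1, 0, 1, 0, 2, 0, 1],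
    [2, 0, 1, 0, 1, 0, 2, 0, 1, 0, 1, 0, 2, 0, 1, 0, 1, 0, 2, 0, 1, 0, 1, 2, 0, 1, 0, 2, 0, 1, 0, 1, 0, 2, 0, 1, 0, 1, 0],
    [2, 0, 1, 0, 1, 2, 0, 1, 0, 2, 0, 1, 0, 1, 0, 2, 0, 1, 0, 1, 0, 2, 0, 1, 0, 1, 0, 2, 0, 1, 0, 1, 0, 2, 0, 1, 0, 1, 0],
    [2, 0, 1, 0, 1, 0, 2, 0, 1, 0, 1, 0, 2, 0, 1, 0, 1, 0, 2, 0, 1, 0, 1, 0, 2, 0, 1, 0, 1, 0, 2, 0, 1, 0, 1, 2, 0, 1, 0],
    [2, 4, 3, 1, 0, 2, 3, 1, 0, 5, 1, 2, 0, 1, 0, 1, 2, 3, 1, 0, 1, 0, 1, 2, 5, 0, 1, 0, 2, 0, 4, 1, 2, 5, 4],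
    [2, 1, 0, 5, 1, 2, 0, 1, 0, 1, 2, 3, 1, 0, 1, 0, 1, 2, 5, 0, 1, 0, 2, 0, 1, 4, 2, 5, 3, 1, 0],
    [3, 1, 0, 2, 1, 0, 5, 1, 2, 0, 1, 0, 1, 2, 3, 1, 0, 1, 0, 1, 2, 5, 0, 1, 0, 2, 0, 1, 4, 2, 5],
    [4, 3, 4, 3],
    [3, 0, 3, 0],
    [2, 3, 2, 3],
    [4, 5, 4, 5],
    [1, 5, 0, 1, 2, 0, 1, 3, 5, 4, 2, 4, 1, 0, 2, 1, 0, 5, 2, 1, 0, 1, 0, 1, 3, 2, 1, 0, 1, 0, 2],
    [2, 1, 2, 1],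
    [4, 1, 2, 0, 1, 0, 2, 1, 4, 0, 1, 3, 0, 1, 0, 2, 0, 1, 0, 1, 2, 0, 3, 1, 0],
    [0, 1, 0, 2, 1, 4, 0, 1, 3, 0, 1, 0, 2, 0, 1, 0, 1, 2, 0, 3, 1, 0, 4, 1, 2],
    [4, 0, 1, 3, 0, 1, 0, 2, 0, 1, 0, 1, 2, 0, 3, 1, 0, 4, 1, 2, 0, 1, 0, 2, 1],
    [4, 2, 4, 2, 4, 2],
    [1, 4, 1, 4, 1, 4],
    [0, 5, 0, 5, 0, 5],
    [0, 3, 0, 3],
    [0, 3, 0, 3],
    [0, 1, 0, 1, 0, 1, 0, 1, 0, 1, 0, 1, 0, 1, 0, 1],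
    [0, 1, 0, 1, 0, 1, 0, 1, 0, 1, 0, 1, 0, 1, 0, 1],
    [0, 4, 0, 4],
    [0, 4, 0, 4],
    [0, 2, 0, 2, 0, 2],
    [0, 2, 0, 2, 0, 2],
    [0, 5, 0, 5, 0, 5],
    [0, 5, 0, 5, 0, 5],
    [3, 1, 3, 1, 3, 1],
    [3, 1, 3, 1, 3, 1],
    [3, 4, 3, 4],
    [3, 4, 3, 4],
    [3, 2, 3, 2],
    [3, 2, 3, 2],
    [3, 5, 3, 5],
    [3, 5, 3, 5],
    [1, 4, 1, 4, 1, 4],
    [1, 4, 1, 4, 1, 4],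
    [1, 2, 1, 2],
    [1, 2, 1, 2],
    [1, 5, 1, 5],
    [1, 5, 1, 5],
    [4, 2, 4, 2, 4, 2],
    [4, 2, 4, 2, 4, 2],
    [4, 5, 4, 5],
    [4, 5, 4, 5],
    [2, 5, 2, 5],
    [2, 5, 2, 5],
    [0, 3, 1, 0, 4, 1, 0, 1, 4, 0, 1, 3, 0, 1, 0, 1],
    [0, 3, 1, 0, 4, 1, 0, 1, 4, 0, 1, 3, 0, 1, 0, 1]]

/-- Their values. -/
def relValsB : List (List Int) :=
  [[0, 0, 0, 0, 0, 0, 0, 0, 0, 0],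
    [0, 0, 0, 0, 0, 0, 0, 0, 0, 0],
    [0, 0, 0, 0, 0, 0, 0, 0, 0, 0],
    [0, 0, 0, 0, 0, 0, 0, 0, 0, 0],
    [0, 0, 0, 0, 0, 0, 0, 0, 0, 0],
    [0, 0, 0, 0, 0, 0, 0, 0, 0, 0],
    [0, 0, 0, 0, 0, 0, 0, 0, 1, 0],
    [0, 0, 0, 0, 0, 0, 0, 0, 0, 0],
    [0, 0, 0, 0, 0, 0, 0, 0, 0, 0],
    [0, 0, 0, 0, 0, 0, 0, 0, 0, 0],
    [0, 0, 1, 0, 0, 0, 0, 0, 0, 0],
    [0, 0, 0, 0, 0, 0, 0, 0, 0, 0],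
    [0, 1, 0, 0, 0, 0, 0, 0, 0, 0],
    [0, 0, 0, 0, 0, 0, 0, 0, 0, 0],
    [0, 0, 0, 0, 1, 0, 0, 0, 0, 0],
    [0, 0, 0, 0, 0, 0, 0, 0, 0, 0],
    [0, 0, 0, 0, 0, 0, 0, 0, 0, 1],
    [0, 0, 0, 0, 0, 0, 0, 1, 0, 0],
    [0, 0, 0, 0, 0, 0, 0, 0, 0, 0],
    [0, 0, 0, 0, 0, 0, 0, 0, 0, 0],
    [0, 0, 0, 0, 0, 0, 0, 0, 0, 0],
    [0, 0, 0, 1, 0, 0, 0, 0, 0, 0],
    [0, 0, 0, 0, 0, 0, 1, 0, 0, 0],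
    [0, 0, 0, 0, 0, 1, 0, 0, 0, 0],
    [0, 0, 0, 0, 0, 0, 0, 0, 0, 0],
    [0, 0, 0, 0, 0, 0, 0, 0, 0, 0],
    [0, 0, 0, 0, 0, 0, 0, 0, 0, 0],
    [0, 0, 0, 0, 0, 0, 0, 0, 0, 0],
    [1, 0, 0, 0, 0, 0, 0, 0, 0, 0],
    [0, 0, 0, 0, 0, 0, 0, 0, 0, 0],
    [0, 0, 0, 0, 0, 0, 0, 0, 1, 0],
    [0, 0, 0, 0, 0, 0, 0, 0, 0, 0],
    [0, 0, 0, 0, 0, 0, 0, 0, 0, 0],
    [0, 0, 1, 0, 0, 0, 0, 0, 0, 0],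
    [0, 0, 0, 0, 0, 0, 0, 0, 0, 0],
    [0, 0, 0, 0, 0, 0, 0, 0, 0, 0],
    [0, 0, 0, 0, 0, 0, 0, 0, 0, 0],
    [0, 1, 0, 0, 0, 0, 0, 0, 0, 0],
    [0, 0, 0, 0, 0, 0, 0, 0, 0, 0],
    [0, 0, 0, 0, 1, 0, 0, 0, 0, 0],
    [0, 0, 0, 0, 0, 0, 0, 0, 0, 0],
    [0, 0, 0, 0, 0, 0, 0, 0, 0, 0],
    [0, 0, 0, 0, 0, 0, 0, 0, 0, 0],
    [0, 0, 0, 0, 0, 0, 0, 0, 0, 0],
    [0, 0, 0, 0, 0, 0, 0, 0, 0, -1],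
    [0, 0, 0, 0, 0, 0, 0, -1, 0, 0],
    [0, 0, 0, 0, 0, 0, 0, -1, 0, 0],
    [0, 0, 0, 0, 0, 0, 0, 0, 0, 0],
    [0, 0, 0, 0, 0, 0, 0, 0, 0, 0],
    [0, 0, 0, 0, 0, 0, 0, 0, 0, 0],
    [0, 0, 0, 1, 0, 0, 0, 0, 0, 0],
    [0, 0, 0, 0, 0, 0, 1, 0, 0, 0],
    [0, 0, 0, 0, 0, 0, 0, 0, 0, 0],
    [0, 0, 0, 0, 0, 0, 0, 0, 0, 0],
    [0, 0, 0, 0, 0, 0, 0, 0, 0, 0],
    [0, 0, 0, 0, 0, 0, 0, 0, 0, 0],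
    [0, 0, 0, 0, 0, 0, 0, 0, 0, 0],
    [0, 0, 0, 0, 0, 0, 0, 0, 0, 0],
    [1, 0, 0, 0, 0, 0, 0, 0, 0, 0],
    [0, 0, 0, 0, 0, 0, 0, 0, 0, 0],
    [0, 0, 0, 0, 0, 0, 0, 0, 0, 0],
    [0, 0, 0, 0, 0, 0, 0, 0, 0, 0],
    [0, 0, 0, 0, 0, 0, 0, 0, 0, 0],
    [0, 0, 0, 0, 0, 0, 0, 0, 0, 0],
    [0, 0, 0, 0, 0, 0, 0, 0, 0, 0],
    [0, 0, 0, 0, 0, 0, 0, 0, 0, 0],
    [0, 0, 0, 0, 0, 0, 0, 0, 0, 0],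
    [1, 0, 0, 0, 0, 0, 0, 0, 0, 0],
    [-1, 0, 0, 0, 0, 0, 0, 0, 0, 0],
    [0, 0, 0, 0, 0, 0, 0, 0, 0, 0],
    [0, 0, 0, 0, 0, 0, 0, 0, 0, 0],
    [0, 0, 0, 0, 0, 0, 0, 0, 0, 0],
    [0, 0, 0, 0, 0, 0, 0, 0, 0, 0],
    [0, 0, 0, 0, 0, 0, 0, 0, 0, 0],
    [0, 0, 0, 0, 0, 0, 0, 0, 0, 0],
    [0, 1, 0, 0, 0, 0, 0, 0, 0, 0],
    [0, -1, 0, 0, 0, 0, 0, 0, 0, 0],
    [0, 0, 0, 0, 0, 0, 0, 0, 0, 0],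
    [0, 0, 0, 0, 0, 0, 0, 0, 0, 0],
    [0, 0, 0, 0, 0, 0, 0, 0, 0, 0],
    [0, 0, 0, 0, 0, 0, 0, 0, 0, 0],
    [0, 0, 1, 0, 0, 0, 0, 0, 0, 0],
    [0, 0, -1, 0, 0, 0, 0, 0, 0, 0],
    [0, 0, 0, 0, 0, 0, 0, 0, 0, 0],
    [0, 0, 0, 0, 0, 0, 0, 0, 0, 0],
    [0, 0, 0, 1, 0, 0, 0, 0, 0, 0],
    [0, 0, 0, -1, 0, 0, 0, 0, 0, 0],
    [0, 0, 0, 0, 1, 0, 0, 0, 0, 0],
    [0, 0, 0, 0, -1, 0, 0, 0, 0, 0],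
    [0, 0, 0, 0, 0, 0, 0, 0, 0, 0],
    [0, 0, 0, 0, 0, 0, 0, 0, 0, 0]]

/-- Their sources. -/
def srcsB : List (Nat × Nat × Bool) :=
  [(0, 0, false), (1, 0, false), (2, 0, false), (3, 0, false), (4, 0, false), (5, 0, false), (28, 17, false), (9, 0, false), (22, 23, false), (8, 0, false), (17, 0, false), (23, 11, false), (14, 1, false), (11, 1, false), (20, 0, false), (21, 1, false), (29, 2, false), (27, 16, false), (12, 0, false), (6, 0, false), (13, 0, false), (19, 1, false), (26, 14, false), (25, 29, false), (16, 0, false), (24, 17, false), (18, 1, false), (15, 1, false), (10, 1, false), (7, 0, false), (28, 24, false), (9, 1, false), (8, 1, false), (17, 1, false), (23, 0, false), (23, 4, false), (23, 6, false), (14, 0, false),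 (11, 0, false), (20, 1, false), (21, 8, false), (21, 11, false), (21, 29, false), (21, 38, false), (29, 13, true), (27, 15, true), (27, 12, true), (12, 1, false), (6, 1, false), (13, 1, false), (19, 0, false), (26, 11, false), (16, 1, false), (24, 4, false), (24, 7, false), (24, 12, false), (18, 0, false), (15, 0, false), (10, 0, false), (6, 0, false), (6, 1, true), (7, 0, false), (7, 1, true), (8, 0, false), (8, 1, true), (9, 0, false), (9, 1, true), (10, 0, false), (10, 1, true), (11, 0, false), (11, 1, true), (12, 0, false), (12, 1, true), (13, 0, false), (13, 1, true), (14, 0, false), (14, 1, true), (15, 0, false), (15, 1, true), (16, 0, false), (16, 1, true), (17, 0, false), (17, 1, true), (18, 0, false), (18, 1, true), (19, 0,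 false), (19, 1, true), (20, 0, false), (20, 1, true), (23, 0, false), (23, 3, true)]

/-- Closed paths. -/
def pathsB : List (List Nat × List Int) :=
  [([28, 729, 12, 728, 1448, 1338, 1340, 728, 1448, 1338, 1340, 728, 1448, 1338, 1340], [1, 0, 0, 1, 0, 0, 1, 1, 1, 0])]

/-- The certificate. -/
def certB : VCert :=
  ⟨relWordsB, relValsB, [[0],
    [1],
    [2],
    [3],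
    [4]], tabFB, tabCB, tabVB, 1071, 378, 10, 16, 2, pathsB⟩

/-- The relators. -/
def canon : List (List Nat) :=
  [[0, 0],
    [1, 1],
    [2, 2],
    [3, 3],
    [4, 4],
    [5, 5],
    [0, 3, 0, 3],
    [0, 1, 0, 1, 0, 1, 0, 1, 0, 1, 0, 1, 0, 1, 0, 1],
    [0, 4, 0, 4],
    [0, 2, 0, 2, 0, 2],
    [0, 5, 0, 5, 0, 5],
    [3, 1, 3, 1, 3, 1],
    [3, 4, 3, 4],
    [3, 2, 3, 2],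
    [3, 5, 3, 5],
    [1, 4, 1, 4, 1, 4],
    [1, 2, 1, 2],
    [1, 5, 1, 5],
    [4, 2, 4, 2, 4, 2],
    [4, 5, 4, 5],
    [2, 5, 2, 5],
    [0, 1, 0, 1, 0, 2, 0, 1, 0, 1, 0, 2, 0, 1, 0, 1, 0, 2, 0, 1, 0, 1, 0, 2, 0, 1, 0, 1, 0, 2, 0, 1, 0, 1, 2, 0, 1, 0, 2],
    [0, 1, 0, 1, 0, 1, 2, 0, 1, 0, 1, 2, 0, 1, 0, 1, 0, 1, 2, 0, 1, 0, 1, 2, 0, 1, 0, 1, 0, 1, 2, 0, 1, 0, 2, 1, 0, 1, 0, 1, 0, 2, 1, 0, 1, 0, 2, 1],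
    [0, 3, 1, 0, 4, 1, 0, 1, 4, 0, 1, 3, 0, 1, 0, 1],
    [0, 3, 1, 0, 4, 1, 2, 0, 1, 0, 2, 1, 4, 0, 1, 3, 0, 1, 0, 2, 0, 1, 0, 1, 2],
    [0, 3, 1, 3, 4, 1, 0, 5, 0, 1, 4, 3, 1, 3, 0, 1, 0, 5, 0, 1, 0, 1, 3, 4, 1, 0, 1, 5, 0, 1],
    [0, 1, 0, 1, 3, 2, 1, 0, 1, 0, 2, 1, 5, 0, 1, 2, 0, 1, 3, 5, 4, 2, 4, 1, 0, 2, 1, 0, 5, 2, 1],
    [0, 1, 0, 1, 3, 2, 1, 0, 1, 0, 2, 1, 5, 0, 1, 2, 0, 1, 3, 5, 2, 4, 1, 0, 2, 0, 1, 0, 5, 2, 1],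
    [0, 1, 0, 1, 3, 2, 1, 0, 1, 0, 2, 1, 5, 0, 1, 3, 2, 0, 1, 3, 4, 1, 5, 4, 2, 1, 4, 1, 0, 2, 1, 0, 5, 2, 1],
    [0, 1, 0, 1, 3, 2, 1, 0, 1, 0, 2, 1, 5, 0, 1, 3, 2, 0, 1, 3, 4, 2, 4, 5, 2, 1, 4, 0, 2, 0, 1, 0, 5, 2, 1]]

/-- Their values. -/
def canonVals : List (List Int) :=
  [[0, 0, 0, 0, 0, 0, 0, 0, 0, 0],
    [0, 0, 0, 0, 0, 0, 0, 0, 0, 0],
    [0, 0, 0, 0, 0, 0, 0, 0, 0, 0],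
    [0, 0, 0, 0, 0, 0, 0, 0, 0, 0],
    [0, 0, 0, 0, 0, 0, 0, 0, 0, 0],
    [0, 0, 0, 0, 0, 0, 0, 0, 0, 0],
    [0, 0, 0, 0, 0, 0, 0, 0, 0, 0],
    [0, 0, 0, 0, 0, 0, 0, 0, 0, 0],
    [0, 0, 0, 0, 0, 0, 0, 0, 0, 0],
    [0, 0, 0, 0, 0, 0, 0, 0, 0, 0],
    [1, 0, 0, 0, 0, 0, 0, 0, 0, 0],
    [0, 0, 0, 0, 0, 0, 0, 0, 0, 0],
    [0, 0, 0, 0, 0, 0, 0, 0, 0, 0],
    [0, 0, 0, 0, 0, 0, 0, 0, 0, 0],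
    [0, 1, 0, 0, 0, 0, 0, 0, 0, 0],
    [0, 0, 0, 0, 0, 0, 0, 0, 0, 0],
    [0, 0, 0, 0, 0, 0, 0, 0, 0, 0],
    [0, 0, 1, 0, 0, 0, 0, 0, 0, 0],
    [0, 0, 0, 0, 0, 0, 0, 0, 0, 0],
    [0, 0, 0, 1, 0, 0, 0, 0, 0, 0],
    [0, 0, 0, 0, 1, 0, 0, 0, 0, 0],
    [0, 0, 0, 0, 0, 0, 0, 0, 0, 0],
    [0, 0, 0, 0, 0, 0, 0, 0, 0, 0],
    [0, 0, 0, 0, 0, 0, 0, 0, 0, 0],
    [0, 0, 0, 0, 0, 0, 0, 0, 0, 0],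
    [0, 0, 0, 0, 0, 1, 0, 0, 0, 0],
    [0, 0, 0, 0, 0, 0, 1, 0, 0, 0],
    [0, 0, 0, 0, 0, 0, 0, 1, 0, 0],
    [0, 0, 0, 0, 0, 0, 0, 0, 1, 0],
    [0, 0, 0, 0, 0, 0, 0, 0, 0, 1]]

/-- The exponent. -/
def expo : Nat := 2

/-- The twists. -/
def lam : List (List Int) :=
  [[0, 0, 0, 0, 0, 0, 0, 0, 0, 0],
    [0, 0, 0, 0, 0, 0, 0, 0, 0, 0],
    [0, 0, 0, 0, 0, 0, 0, 0, 0, 0],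
    [0, 0, 0, 0, 0, 0, 0, 0, 0, 0],
    [0, 0, 0, 0, 0, 0, 0, 0, 0, 0],
    [0, 0, 0, 0, 0, 0, 0, 0, 0, 1]]

/-- The generator of the bound. -/
def omega : List Int :=
  [0, 0, 0, 0, 0, 1, 0, 0, 0, 1]

/-- The multiples of it. -/
def mult : List Int :=
  [0, 0, 0, 0, 0, 0, 0, 0, 0, 0, 0, 0, 0, 0, 0, 0, 0, 0, 0, 0, 0, 0, 0, 0, 0, 1, 0, 0, 0, 0]

/-- Combinations giving the exponent. -/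
def expoCombs : List (List Int × List (Nat × Nat × Int)) :=
  [([0, 0, 0, 0, 0, 0, 0, 0, 0, 0], [(36, 37, 1)]),
    ([-6, 24, -36, 0, 0, 30, -30, 2, 0, 0], [(36, 37, -30), (44, 45, -2)]),
    ([-2, 8, -12, 0, 0, 10, -10, 0, 0, 0], [(36, 37, -10)]),
    ([-2, 16, -24, 0, 0, 18, -20, 0, 0, 0], [(36, 37, -18)]),
    ([0, 2, -4, 0, 0, 2, -2, 0, 0, 0], [(36, 37, -2)]),
    ([0, 0, 0, 0, 0, 0, 0, 0, 0, 1], []),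
    ([1, 9, -13, 0, 0, 8, -8, 0, 1, 0], [(36, 37, -8)]),
    ([-3, 31, -45, 0, -2, 36, -36, 0, 1, 0], [(36, 37, -36)]),
    ([3, -3, 5, 0, 0, -6, 6, 0, 1, 0], [(36, 37, 6)]),
    ([3, -9, 15, -2, 0, -12, 12, 0, 1, 0], [(36, 37, 12)])]

/-- Combinations for the twisted relators. -/
def twistCombs : List (List Int × List (Nat × Nat × Int)) :=
  [([0, 0, 0, 0, 0, 0, 0, 0, 0, 0, 0, 0, 0, 0, 0, 0, 0, 0, 0, 0, 0], []),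
    ([0, 0, 0, 0, 0, 0, 0, 0, 0, 0, 0, 0, 0, 0, 0, 0, 0, 0, 0, 0, 0], []),
    ([0, 0, 0, 0, 0, 0, 0, 0, 0, 0, 0, 0, 0, 0, 0, 0, 0, 0, 0, 0, 0], []),
    ([0, 0, 0, 0, 0, 0, 0, 0, 0, 0, 0, 0, 0, 0, 0, 0, 0, 0, 0, 0, 0], []),
    ([0, 0, 0, 0, 0, 0, 0, 0, 0, 0, 0, 0, 0, 0, 0, 0, 0, 0, 0, 0, 0], []),
    ([0, 0, 0, 0, 0, 0, 0, 0, 0, 0, 0, 0, 0, 0, 0, 0, 0, 0, 0, 0, 1], []),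
    ([0, 0, 0, 0, 0, 0, 0, 0, 0, 0, 0, 0, 0, 0, 0, 0, 0, 0, 0, 0, 0], []),
    ([0, 0, 0, 0, 0, 0, 0, 0, 0, 0, 0, 0, 0, 0, 0, 0, 0, 0, 0, 0, 0], []),
    ([0, 0, 0, 0, 0, 0, 0, 0, 0, 0, 0, 0, 0, 0, 0, 0, 0, 0, 0, 0, 0], []),
    ([0, 0, 0, 0, 0, 0, 0, 0, 0, 0, 0, 0, 0, 0, 0, 0, 0, 0, 0, 0, 0], []),
    ([691, 843, -970, -1, -235, 118, -353, 0, 353, 0, -235, 0, 0, 0, 0, 0, 0, 0, 0, 0, 1], []),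
    ([0, 0, 0, 0, 0, 0, 0, 0, 0, 0, 0, 0, 0, 0, 0, 0, 0, 0, 0, 0, 0], []),
    ([0, 0, 0, 0, 0, 0, 0, 0, 0, 0, 0, 0, 0, 0, 0, 0, 0, 0, 0, 0, 0], []),
    ([0, 0, 0, 0, 0, 0, 0, 0, 0, 0, 0, 0, 0, 0, 0, 0, 0, 0, 0, 0, 0], []),
    ([2343, 2859, -3291, 0, -798, 399, -1197, 1, 1197, 0, -798, 0, 0, 0, 0, 0, 0, 0, 0, 0, 1], [(75, 76, -1)]),
    ([0, 0, 0, 0, 0, 0, 0, 0, 0, 0, 0, 0, 0, 0, 0, 0, 0, 0, 0, 0, 0], []),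
    ([0, 0, 0, 0, 0, 0, 0, 0, 0, 0, 0, 0, 0, 0, 0, 0, 0, 0, 0, 0, 0], []),
    ([2896, 3533, -4067, 0, -986, 493, -1479, 0, 1479, 0, -986, 0, 0, 0, 0, 0, 0, 0, 0, 0, 1], []),
    ([0, 0, 0, 0, 0, 0, 0, 0, 0, 0, 0, 0, 0, 0, 0, 0, 0, 0, 0, 0, 0], []),
    ([758, 925, -1065, 0, -258, 129, -388, 0, 387, 0, -258, 0, 0, 0, 0, 0, 0, 0, 0, 0, 1], []),
    ([1792, 2186, -2517, 0, -610, 305, -915, 0, 915, 0, -610, 0, 0, 0, 0, 0, 0, 0, 0, 0, 1], []),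
    ([0, 0, 0, 0, 0, 0, 0, 0, 0, 0, 0, 0, 0, 0, 0, 0, 0, 0, 0, 0, 0], []),
    ([0, 0, 0, 0, 0, 0, 0, 0, 0, 0, 0, 0, 0, 0, 0, 0, 0, 0, 0, 0, 0], []),
    ([0, 0, 0, 0, 0, 0, 0, 0, 0, 0, 0, 0, 0, 0, 0, 0, 0, 0, 0, 0, 0], []),
    ([0, 0, 0, 0, 0, 0, 0, 0, 0, 0, 0, 0, 0, 0, 0, 0, 0, 0, 0, 0, 0], []),
    ([0, 0, 0, 0, 0, 0, 0, 0, 0, 0, 0, 0, 0, 0, 0, 0, 0, 0, 0, 0, 1], []),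
    ([-480, -586, 675, -1, 164, -82, 246, 0, -245, 0, 164, 0, 0, 0, 0, 0, 0, 0, 0, 0, 1], []),
    ([-69, -85, 99, -1, 23, -12, 36, 0, -35, 0, 24, 0, 0, 0, 0, 0, 0, 0, 0, 0, 1], []),
    ([-756, -923, 1063, -1, 258, -129, 387, 0, -386, 0, 258, 0, 0, 0, 0, 0, 0, 0, 0, 0, 1], []),
    ([0, 0, 0, 0, 0, 0, 0, 0, 0, 0, 0, 0, 0, 0, 0, 0, 0, 0, 0, 0, 2], [])]

/-- Combinations for the twists. -/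
def lamCombs : List (List Int × List (Nat × Nat × Int)) :=
  [([0, 0, 0, 0, 0, 0, 0, 0, 0, 0, 0, 0, 0, 0, 0, 0, 0, 0, 0, 0, 0], []),
    ([0, 0, 0, 0, 0, 0, 0, 0, 0, 0, 0, 0, 0, 0, 0, 0, 0, 0, 0, 0, 0], []),
    ([0, 0, 0, 0, 0, 0, 0, 0, 0, 0, 0, 0, 0, 0, 0, 0, 0, 0, 0, 0, 0], []),
    ([0, 0, 0, 0, 0, 0, 0, 0, 0, 0, 0, 0, 0, 0, 0, 0, 0, 0, 0, 0, 0], []),
    ([0, 0, 0, 0, 0, 0, 0, 0, 0, 0, 0, 0, 0, 0, 0, 0, 0, 0, 0, 0, 0], []),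
    ([0, 0, 0, 0, 0, 0, 0, 0, 0, 0, 0, 0, 0, 0, 0, 0, 0, 0, 0, 0, 1], [])]

/-- Combination for the generator. -/
def omegaComb : List Int × List (Nat × Nat × Int) :=
  ([0, 0, 0, 0, 0, 0, 0, 0, 0, 0, 0, 0, 0, 0, 0, 0, 1, 0, 0, 0, 1], [])

end Cfsg.Lib.CosetEnum.RuStemG
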